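import Cfsg.Agent.SpecNine.Witness
import Cfsg.Agent.AutPOmega.Forms
import Cfsg.Agent.Classical.OrthPOmega
import Cfsg.Agent.Spectrum.Orders

/-!
The commutator group of the isometry group in matrices, and the two sets of element orders.
-/

set_option autoImplicit false

namespace Cfsg.Agent.SpecNine

open Module QuadraticMap Classical.Quad Matrix
open SpecSpEight (oCongr_apply')

universe u v

variable {F : Type u} [Field F] [Finite F]

/-- `Omega` as the isometries with trivial characters. -/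
theorem corr {ι : Type} [Fintype ι] [DecidableEq ι] {Q : QuadraticForm F (ι → F)} {W : Type v} [AddCommGroup W]
    [Module F W] [FiniteDimensional F W] [Finite W] {R : QuadraticForm F W} (h2 : (2 : F) ≠ 0)
    (hR : (polarBilin R).Nondegenerate) (e : (ι → F) ≃ₗ[F] W) (he : ∀ x, R (e x) = Q x) :
    ∃ φ : ↥(Cfsg.Omega F ⇑Q) →* oG R, Function.Injective φ ∧
      (∀ g, dickson hR (hex_of_two h2 _) (φ g) = 1 ∧ spin R (φ g) = 1) ∧
      (∀ g : oG R, dsign g = 1 → spin R g = 1 → ∃ s, φ s = g) ∧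
      ∀ g x, (φ g).1 (e x) = e (((g.1 : GL ι F) : Matrix ι ι F) *ᵥ x) := by
  let E : Cfsg.isometryGroup F ⇑Q ≃* oG R := (oEquiv Q).trans (oCongr e he)
  have hE : ∀ g, g ∈ Cfsg.Omega F ⇑Q ↔ E g ∈ commutator (oG R) := fun g => by
    rw [mem_omega_iff]
    have e' : (commutator (oG Q)).map (oCongr e he).toMonoidHom = commutator (oG R) := by
      rw [commutator_def, commutator_def, Subgroup.map_commutator,
        Subgroup.map_top_of_surjective (oCongr e he).toMonoidHom (oCongr e he).surjective]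
    rw [← e']
    exact (Subgroup.mem_map_iff_mem (oCongr e he).injective).symm
  refine ⟨E.toMonoidHom.comp (Cfsg.Omega F ⇑Q).subtype, E.injective.comp Subtype.val_injective, fun g => ?_,
    fun g hd hs => ?_, fun g x => ?_⟩
  · obtain ⟨h1, h3⟩ := (mem_commutator_chars hR (hex_of_two h2 _) _).1 ((hE g.1).1 g.2)
    exact ⟨h1, h3 h2⟩
  · obtain ⟨s, rfl⟩ := E.surjective g
    exact ⟨⟨s, (hE s).2 ((mem_commutator_chars hR (hex_of_two h2 _) _).2 ⟨hd, fun _ => hs⟩)⟩, rfl⟩
  · show (oCongr e he (oEquiv Q g.1)).1 (e x) = _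
    rw [oCongr_apply' e he, oEquiv_apply]

theorem center_nine (h2 : (2 : F) ≠ 0) {ι : Type} [Fintype ι] [DecidableEq ι] {Q : QuadraticForm F (ι → F)}
    (hQ : (polarBilin Q).Nondegenerate) (hn : finrank F (ι → F) = 9) :
    Subgroup.center (Cfsg.Omega F ⇑Q) = ⊥ := by
  refine Subgroup.eq_bot_of_card_eq _ ((card_center_omega hQ (by omega)).2 (Or.inl ?_))
  rintro ⟨g, hg, hg1⟩
  obtain ⟨φ, -, hchar, -, happ⟩ := corr h2 hQ (LinearEquiv.refl F _) (fun _ => rfl)
  have hneg : φ ⟨g, hg⟩ = negO Q := ext_oG fun x => by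
    have h := happ ⟨g, hg⟩ x
    simp only [LinearEquiv.refl_apply] at h
    rw [h, hg1, Matrix.neg_mulVec, Matrix.one_mulVec]
    rfl
  have hfix : fixSub (negO Q) = ⊥ := (Submodule.eq_bot_iff _).2 fun z hz => by
    rw [mem_fixSub, negO_apply] at hz
    have h0 : (2 : F) • z = 0 := by rw [two_smul]; nth_rw 1 [← hz]; exact neg_add_cancel z
    exact (smul_eq_zero.1 h0).resolve_left h2
  have h1 : dsign (φ ⟨g, hg⟩) = 1 := (hchar ⟨g, hg⟩).1
  rw [hneg, dsign, hfix, finrank_bot, add_zero, hn] at h1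
  exact absurd h1 (by decide)

omit [Finite F] in
/-- Powers in an extension of a module by a group acting through isometries. -/
theorem semi_pow {G : Type*} [Group G] {V : Type*} [AddCommGroup V] [Module F V]
    {θ : G →* MulAut (Multiplicative V)} {W : Type v} [AddCommGroup W] [Module F W] {R : QuadraticForm F W}
    (ψ : G →* oG R) (hψ : Function.Injective ψ) (e : V ≃ₗ[F] W)
    (he : ∀ g v, (ψ g).1 (e v) = e (Multiplicative.toAdd (θ g (Multiplicative.ofAdd v))))
    (h : Multiplicative V ⋊[θ] G) (n : ℕ) :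
    h ^ n = 1 ↔ ψ h.right ^ n = 1 ∧
      ∑ i ∈ Finset.range n, (ψ h.right ^ i).1 (e (Multiplicative.toAdd h.left)) = 0 := by
  have key : ∀ n, (h ^ n).right = h.right ^ n ∧ e (Multiplicative.toAdd (h ^ n).left) =
      ∑ i ∈ Finset.range n, (ψ h.right ^ i).1 (e (Multiplicative.toAdd h.left)) := by
    intro n
    induction n with
    | zero => exact ⟨by rw [pow_zero, pow_zero, SemidirectProduct.one_right],
        by rw [pow_zero, SemidirectProduct.one_left, toAdd_one, map_zero, Finset.sum_range_zero]⟩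
    | succ n ih =>
      refine ⟨by rw [pow_succ, pow_succ, SemidirectProduct.mul_right, ih.1], ?_⟩
      rw [pow_succ, SemidirectProduct.mul_left, toAdd_mul, map_add, ih.2, Finset.sum_range_succ, ih.1,
        ← map_pow ψ h.right n, he, ofAdd_toAdd]
  constructor
  · intro hn
    refine ⟨by rw [← map_pow, ← (key n).1, hn, SemidirectProduct.one_right, map_one], ?_⟩
    rw [← (key n).2, hn, SemidirectProduct.one_left, toAdd_one, map_zero]
  · rintro ⟨hn, hsum⟩
    refine SemidirectProduct.ext ?_ ?_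
    · exact Multiplicative.toAdd.injective (e.injective (((key n).2.trans hsum).trans (map_zero e).symm))
    · rw [(key n).1]
      exact hψ (by rw [map_pow, hn, SemidirectProduct.one_right, map_one])

/-- The two sets of element orders agree. -/
theorem isospectral [Fintype F] (p : ℕ) [Fact p.Prime] [CharP F p] (h2 : (2 : F) ≠ 0) {a b : F}
    (hab : ∀ z₁ z₂ : F, z₁ ^ 2 + a * z₁ * z₂ + b * z₂ ^ 2 = 0 → z₁ = 0 ∧ z₂ = 0)
    {A : Type*} [Group A] [Finite A] (φA : A →* oG (hyp (sqForm F) 4)) (hAi : Function.Injective φA)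
    (hAc : ∀ g, dsign (φA g) = 1 ∧ spin _ (φA g) = 1)
    (hAs : ∀ g : oG (hyp (sqForm F) 4), dsign g = 1 → spin _ g = 1 → ∃ s, φA s = g)
    {B : Type*} [Group B] [Finite B] (φB : B →* oG (hyp (binForm a b) 3))
    (hBc : ∀ g, dsign (φB g) = 1 ∧ spin _ (φB g) = 1)
    (π : B → ((Fin 3 → F) × (Fin 3 → F)) × (F × F))
    (hBpow : ∀ (h : B) (n : ℕ), (h ^ n = 1 ↔ φB h ^ n = 1 ∧ ∑ i ∈ Finset.range n, (φB h ^ i).1 (π h) = 0))
    (hBs : ∀ g : oG (hyp (binForm a b) 3), dsign g = 1 → spin _ g = 1 → ∀ v, ∃ h, φB h = g ∧ π h = v) :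
    Set.range (orderOf : A → ℕ) = Set.range (orderOf : B → ℕ) := by
  have hQ9 := nondeg_hyp (nondeg_sqForm (F := F) h2) 4
  have hQ8 := nondeg_hyp (nondeg_binForm hab) 3
  have hL := nondeg_sqForm (F := F) h2
  apply Set.Subset.antisymm
  · rintro _ ⟨x, rfl⟩
    obtain ⟨P, hP, hx, -⟩ := exists_bound p hQ9 h2
      (by simp only [Module.finrank_prod, Module.finrank_fin_fun, Module.finrank_self]) (φA x) (hAc x).1 (hAc x).2
    obtain ⟨-, g, v, hd, hs, hg⟩ := exists_wit p h2 hab hP
    obtain ⟨h, hh, hv⟩ := hBs g hd hs v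
    refine Spectrum.exists_orderOf_eq_of_dvd (orderOf_pos h).ne' ?_
    obtain ⟨h1, h3⟩ := (hBpow h _).1 (pow_orderOf_eq_one h)
    rw [hh, hv] at h3
    rw [hh] at h1
    exact (orderOf_dvd_of_pow_eq_one (hAi (by rw [map_pow, hx, map_one]))).trans (hg _ h1 h3)
  · rintro _ ⟨h, rfl⟩
    obtain ⟨c1, c2⟩ := chars_prod hQ8 hL h2 (φB h) 1
    set y : oG ((hyp (binForm a b) 3).prod (sqForm F)) := SpecSpEight.prodO (hyp (binForm a b) 3) (sqForm F) (φB h, 1) with hy
    have hV : finrank F ((((Fin 3 → F) × (Fin 3 → F)) × (F × F)) × F) = 9 := by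
      simp only [Module.finrank_prod, Module.finrank_fin_fun, Module.finrank_self]
    have hn := nondeg_prod hQ8 hL
    have hd' : dsign y = 1 := by rw [c1, (hBc h).1, dsign_one, one_mul]
    have hs' : spin _ y = 1 := by rw [c2, (hBc h).2, map_one, one_mul]
    obtain ⟨P, hP, hx, hsum⟩ := exists_bound p hn h2 hV y hd' hs'
    obtain ⟨⟨g, hg, hd, hs⟩, -⟩ := exists_wit p h2 hab hP
    obtain ⟨x, rfl⟩ := hAs g hd hs
    refine Spectrum.exists_orderOf_eq_of_dvd (orderOf_pos x).ne' ?_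
    rw [← orderOf_injective φA hAi x, hg]
    refine orderOf_dvd_of_pow_eq_one ((hBpow h _).2 ⟨?_, ?_⟩)
    · rw [← map_pow, (injective_iff_map_eq_one' _).1 (SpecSpEight.prodO_injective _ _), Prod.pow_mk,
        Prod.mk_eq_one] at hx
      exact hx.1
    · have he : (hyp (binForm a b) 3).prod (sqForm F) (0, 1) ≠ 0 := by simp [sqForm]
      have hz := hsum (0, 1) he (Prod.ext (map_zero (φB h).1) rfl) (π h, 0) (by simp [polar])
      have := congrArg Prod.fst hz
      rw [Prod.fst_sum, Prod.fst_zero] at this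
      rw [← this]
      refine Finset.sum_congr rfl fun i _ => ?_
      rw [hy, ← map_pow (SpecSpEight.prodO (hyp (binForm a b) 3) (sqForm F)), Prod.pow_mk]
      rfl

end Cfsg.Agent.SpecNine
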