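import Cfsg.Agent.FormOrder.Arith

/-!
The maximal element orders of the nine-dimensional orthogonal group in odd characteristic.
-/

set_option autoImplicit false

namespace Cfsg.Agent.SpecNine

open Cfsg.Agent.FormOrder

/-- The pairs (exponent of the characteristic, part prime to it) of the maximal element orders. -/
def L (q p : ℕ) : List (ℕ × ℕ) :=
  [(0, (q ^ 2 + 1) * (q ^ 2 - 1) / 2), (0, (q ^ 4 + 1) / 2), (0, (q ^ 3 + 1) * (q - 1) / 2),
    (0, (q ^ 3 - 1) * (q + 1) / 2), (1, (q ^ 3 + 1) / 2), (1, (q ^ 3 - 1) / 2), (1, (q ^ 2 + 1) * (q + 1) / 2),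
    (1, (q ^ 2 + 1) * (q - 1) / 2), (1, q ^ 2 - 1)] ++
  (if p = 3 then [(2, (q ^ 2 + 1) / 2), (2, (q ^ 2 - 1) / 2), (2, q + 1), (2, q - 1)]
    else if p = 5 then [(2, (q + 1) / 2), (2, (q - 1) / 2)] else if p = 7 then [(2, 1)] else [])

theorem val_d (q : ℕ) : val q (1, true) = q + 1 ∧ val q (1, false) = q - 1 ∧ val q (2, true) = q ^ 2 + 1 ∧
    val q (2, false) = q ^ 2 - 1 ∧ val q (3, true) = q ^ 3 + 1 ∧ val q (3, false) = q ^ 3 - 1 ∧
    val q (4, true) = q ^ 4 + 1 ∧ val q (4, false) = q ^ 4 - 1 := by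
  simp [val]

theorem sq_split (q : ℕ) : q ^ 2 - 1 = (q + 1) * (q - 1) ∧ q ^ 4 - 1 = (q ^ 2 + 1) * (q ^ 2 - 1) := by
  constructor
  · simpa using Nat.sq_sub_sq q 1
  · have := Nat.sq_sub_sq (q ^ 2) 1
    rw [one_pow, ← pow_mul] at this
    exact this

theorem even_parts {q : ℕ} (hq : Odd q) :
    2 ∣ q + 1 ∧ 2 ∣ q - 1 ∧ ∀ d, 2 ∣ q ^ d + 1 ∧ 2 ∣ q ^ d - 1 := by
  have key : ∀ d, 2 ∣ q ^ d + 1 ∧ 2 ∣ q ^ d - 1 := fun d => by
    have := Nat.odd_iff.1 (hq.pow (n := d))
    omega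
  have h := key 1
  rw [pow_one] at h
  exact ⟨h.1, h.2, key⟩

theorem dvd_half {A B x : ℕ} (hA : 2 ∣ A) (hB : 2 ∣ B) (h : x ∣ A ∨ x ∣ B) : x ∣ A * B / 2 := by
  rcases h with h | h
  · rw [Nat.mul_div_assoc _ hB]; exact h.mul_right _
  · rw [mul_comm, Nat.mul_div_assoc _ hA]; exact h.mul_right _

theorem dvd_halves {q : ℕ} (hq : Odd q) :
    (∀ b, q + 1 ∣ (q ^ 2 - 1) ∧ q - 1 ∣ (q ^ 2 - 1) ∧ val q (1, b) ∣ (q ^ 2 - 1) / 2) ∧
      q + 1 ∣ q ^ 3 + 1 ∧ q - 1 ∣ q ^ 3 - 1 := by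
  obtain ⟨h1, h2, -⟩ := even_parts hq
  refine ⟨fun b => ⟨(sq_split q).1 ▸ dvd_mul_right _ _, (sq_split q).1 ▸ dvd_mul_left _ _, ?_⟩, ?_, ?_⟩
  · rw [(sq_split q).1]
    cases b
    · exact dvd_half h1 h2 (Or.inr (by rw [(val_d q).2.1]))
    · exact dvd_half h1 h2 (Or.inl (by rw [(val_d q).1]))
  · simpa using Odd.nat_add_dvd_pow_add_pow q 1 (by decide : Odd 3)
  · simpa using Nat.sub_dvd_pow_sub_pow q 1 3

/-- The weight of a piece. -/
abbrev wt (e : (ℕ × Bool) × ℕ) : ℕ := e.2 * e.1.1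

theorem sum_sub {s l : List ((ℕ × Bool) × ℕ)} (hl : l.Nodup) (h : l ⊆ s) : (l.map wt).sum ≤ (s.map wt).sum := by
  obtain ⟨l', hp, hs⟩ := hl.subperm h
  rw [← (hp.map wt).sum_eq]
  exact (hs.map wt).sum_le_sum fun _ _ => Nat.zero_le _

/-- Every admissible collection of pieces is covered by one of the maximal orders. -/
theorem exists_target {q p : ℕ} (hq : Odd q) (hp : p.Prime) (hp2 : Odd p) {c r : ℕ}
    (hc : Odd c) (hr : Even r) (s : List ((ℕ × Bool) × ℕ)) (hs : ∀ e ∈ s, 1 ≤ e.1.1 ∧ 1 ≤ e.2)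
    (hD : c + r + 2 * (s.map wt).sum ≤ 9) :
    ∃ j M, (j, M) ∈ L q p ∧ (0 < r → 2 ∣ M) ∧ c ≤ p ^ j ∧ r - 1 ≤ p ^ j ∧
      ∀ e ∈ s, e.2 ≤ p ^ j ∧
        (val q e.1 ∣ M ∨ (r = 0 ∧ 2 * e.1.1 + c = 9 ∧ val q e.1 / 2 ∣ M)) := by
  obtain ⟨v1t, v1f, v2t, v2f, v3t, v3f, v4t, v4f⟩ := val_d q
  obtain ⟨e1, e2, ev⟩ := even_parts hq
  obtain ⟨hsq, hc3, hd3⟩ := dvd_halves hq
  obtain ⟨r', rfl⟩ := hr
  have hc2 := Nat.odd_iff.1 hc
  have hw : ∀ e ∈ s, 1 ≤ e.1.1 ∧ 1 ≤ e.2 ∧ e.1.1 ≤ wt e ∧ e.2 ≤ wt e ∧ wt e ≤ (s.map wt).sum := fun e he =>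
    ⟨(hs e he).1, (hs e he).2, Nat.le_mul_of_pos_left _ (hs e he).2, Nat.le_mul_of_pos_right _ (hs e he).1,
      List.le_sum_of_mem (List.mem_map.2 ⟨e, he, rfl⟩)⟩
  have h2 : ∀ e ∈ s, ∀ f ∈ s, f ≠ e → wt e + wt f ≤ (s.map wt).sum := fun e he f hf hne => by
    simpa using sum_sub (s := s) (l := [e, f]) (by simp [hne.symm]) (by simp [he, hf])
  have hp3 : 3 ≤ p := by have := hp.two_le; have := Nat.odd_iff.1 hp2; omega
  have hpp : 9 ≤ p ^ 2 := by nlinarith
  have hval : ∀ e ∈ s, e.1.1 ≤ 2 → e.1 = (2, true) ∨ val q e.1 ∣ q ^ 2 - 1 := fun e he h => by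
    obtain ⟨⟨d, b⟩, k⟩ := e
    obtain ⟨hd, -⟩ := hs _ he
    simp only at h hd ⊢
    interval_cases d
    · right
      cases b
      · rw [v1f]; exact (hsq true).2.1
      · rw [v1t]; exact (hsq true).1
    · cases b
      · right; rw [v2f]
      · left; rfl
  -- four dimensions moved semiregularly
  by_cases h4 : ∃ e ∈ s, e.1.1 = 4
  · obtain ⟨e, he, h4⟩ := h4
    obtain ⟨-, hk, hwd, -, hwD⟩ := hw e he
    have hk1 : e.2 = 1 := by
      have : e.2 * 4 = wt e := by rw [wt, h4]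
      omega
    refine ⟨0, if e.1.2 then (q ^ 4 + 1) / 2 else (q ^ 2 + 1) * (q ^ 2 - 1) / 2, ?_, by omega, by rw [pow_zero]; omega,
      by rw [pow_zero]; omega,
      fun f hf => ?_⟩
    · split_ifs <;> simp [L]
    obtain ⟨-, hk', hwd', hwk', -⟩ := hw f hf
    by_cases hfe : f = e
    · subst hfe
      refine ⟨by simp [hk1], Or.inr ⟨by omega, by omega, ?_⟩⟩
      obtain ⟨⟨d, b⟩, k⟩ := f
      obtain rfl : d = 4 := h4
      cases b
      · simp [v4f, (sq_split q).2]
      · simp [v4t]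
    · have := h2 e he f hf hfe
      omega
  -- three dimensions
  by_cases h3 : ∃ e ∈ s, e.1.1 = 3
  · obtain ⟨e, he, h3⟩ := h3
    obtain ⟨-, hk, hwd, -, hwD⟩ := hw e he
    have hk1 : e.2 = 1 := by
      have : e.2 * 3 = wt e := by rw [wt, h3]
      omega
    have hothers : ∀ f ∈ s, f ≠ e → c = 1 ∧ r' = 0 ∧ f.1.1 = 1 ∧ f.2 = 1 := fun f hf hfe => by
      have := h2 e he f hf hfe
      obtain ⟨hd', hk', hwd', hwk', -⟩ := hw f hf
      omega
    obtain ⟨⟨d, b⟩, k⟩ := e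
    obtain rfl : d = 3 := h3
    obtain rfl : k = 1 := hk1
    have hw3 : wt ((3, b), 1) = 3 := rfl
    by_cases hc1 : c = 1
    · refine ⟨0, if b then (q ^ 3 + 1) * (q - 1) / 2 else (q ^ 3 - 1) * (q + 1) / 2, ?_, fun _ => ?_,
        by rw [pow_zero]; omega, by rw [pow_zero]; omega, fun f hf => ?_⟩
      · cases b <;> simp [L]
      · cases b
        · exact dvd_half (ev 3).2 e1 (Or.inr e1)
        · exact dvd_half (ev 3).1 e2 (Or.inr e2)
      by_cases hfe : f = ((3, b), 1)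
      · subst hfe
        refine ⟨by simp, Or.inl ?_⟩
        cases b
        · exact dvd_half (ev 3).2 e1 (Or.inl (by rw [v3f]))
        · exact dvd_half (ev 3).1 e2 (Or.inl (by rw [v3t]))
      · obtain ⟨-, -, hfd, hfk⟩ := hothers f hf hfe
        obtain ⟨⟨d', b'⟩, k'⟩ := f
        obtain rfl : d' = 1 := hfd
        refine ⟨by simp at hfk; simp [hfk], Or.inl ?_⟩
        cases b
        · refine dvd_half (ev 3).2 e1 ?_
          cases b'
          · exact Or.inl (by rw [v1f]; exact hd3)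
          · exact Or.inr (by rw [v1t])
        · refine dvd_half (ev 3).1 e2 ?_
          cases b'
          · exact Or.inr (by rw [v1f])
          · exact Or.inl (by rw [v1t]; exact hc3)
    · refine ⟨1, if b then (q ^ 3 + 1) / 2 else (q ^ 3 - 1) / 2, ?_, by omega, by rw [pow_one]; omega,
        by rw [pow_one]; omega, fun f hf => ?_⟩
      · cases b <;> simp [L]
      by_cases hfe : f = ((3, b), 1)
      · subst hfe
        refine ⟨by rw [pow_one]; simp; omega, Or.inr ⟨by omega, by simp; omega, ?_⟩⟩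
        cases b
        · simp [v3f]
        · simp [v3t]
      · exact absurd (hothers f hf hfe).1 hc1
  have hd2 : ∀ e ∈ s, e.1.1 ≤ 2 := fun e he => by
    obtain ⟨-, -, hwd, -, hwD⟩ := hw e he
    rcases Nat.lt_or_ge e.1.1 3 with h | h
    · omega
    · exfalso
      rcases (show e.1.1 = 3 ∨ e.1.1 = 4 by omega) with h' | h'
      · exact h3 ⟨e, he, h'⟩
      · exact h4 ⟨e, he, h'⟩
  -- all blocks trivial
  by_cases h1 : c = 1 ∧ r' ≤ 1 ∧ ∀ e ∈ s, e.2 = 1
  · refine ⟨0, (q ^ 2 + 1) * (q ^ 2 - 1) / 2, by simp [L], fun _ => dvd_half (ev 2).1 (ev 2).2 (Or.inl (ev 2).1),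
      by rw [pow_zero]; omega, by rw [pow_zero]; omega, fun e he => ⟨by simp [h1.2.2 e he], Or.inl ?_⟩⟩
    rcases hval e he (hd2 e he) with h | h
    · rw [h, v2t]; exact dvd_half (ev 2).1 (ev 2).2 (Or.inl dvd_rfl)
    · exact dvd_half (ev 2).1 (ev 2).2 (Or.inr h)
  have hfull : ∀ l : List ((ℕ × Bool) × ℕ), l.Nodup → l ⊆ s → 4 ≤ (l.map wt).sum → (∀ e ∈ l, e.2 = 1) → False := by
    intro l hl hsub h4' hall
    refine h1 ⟨by have := sum_sub hl hsub; omega, by have := sum_sub hl hsub; omega, fun e he => ?_⟩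
    by_cases hel : e ∈ l
    · exact hall e hel
    · have := sum_sub (l := e :: l) (List.nodup_cons.2 ⟨hel, hl⟩) (List.cons_subset.2 ⟨he, hsub⟩)
      obtain ⟨-, hk, -, hwk, -⟩ := hw e he
      simp only [List.map_cons, List.sum_cons] at this
      omega
  by_cases hmax : c ≤ p ∧ r' + r' - 1 ≤ p ∧ ∀ e ∈ s, e.2 ≤ p
  · -- blocks of length at most the characteristic
    obtain ⟨hm1, hm2, hm3⟩ := hmax
    by_cases h21 : ∃ e ∈ s, e.1 = (2, true)
    · obtain ⟨⟨e₀, k⟩, he, rfl⟩ := h21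
      obtain ⟨-, hk, -, -, hwD⟩ := hw _ he
      have hone : ∀ f ∈ s, ∀ g ∈ s, f.1 = (1, true) → g.1 = (1, false) → False := by
        rintro ⟨f₀, k'⟩ hf ⟨g₀, k''⟩ hg rfl rfl
        obtain ⟨-, hk', -, -, -⟩ := hw _ hf
        obtain ⟨-, hk'', -, -, -⟩ := hw _ hg
        simp only at hk hk' hk''
        have hsum := sum_sub (s := s) (l := [((2, true), k), ((1, true), k'), ((1, false), k'')]) (by simp)
          (by simp [he, hf, hg])
        simp [wt] at hsum
        exact hfull [((2, true), k), ((1, true), k'), ((1, false), k'')] (by simp) (by simp [he, hf, hg])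
          (by simp [wt]; omega) (by simp; omega)
      have hno2 : ∀ f ∈ s, f.1 ≠ (2, false) := by
        rintro ⟨f₀, k'⟩ hf rfl
        obtain ⟨-, hk', -, -, -⟩ := hw _ hf
        simp only at hk hk'
        have hsum := sum_sub (s := s) (l := [((2, true), k), ((2, false), k')]) (by simp) (by simp [he, hf])
        simp [wt] at hsum
        exact hfull [((2, true), k), ((2, false), k')] (by simp) (by simp [he, hf]) (by simp [wt]; omega)
          (by simp; omega)
      refine ⟨1, if (∃ f ∈ s, f.1 = (1, true)) then (q ^ 2 + 1) * (q + 1) / 2 else (q ^ 2 + 1) * (q - 1) / 2, ?_,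
        fun _ => ?_, by rwa [pow_one], by rwa [pow_one], fun f hf => ⟨by rw [pow_one]; exact hm3 f hf, Or.inl ?_⟩⟩
      · split_ifs <;> simp [L]
      · split_ifs
        · exact dvd_half (ev 2).1 e1 (Or.inr e1)
        · exact dvd_half (ev 2).1 e2 (Or.inr e2)
      obtain ⟨⟨d, b⟩, k'⟩ := f
      obtain ⟨hd, -⟩ := hs _ hf
      have hdle := hd2 _ hf
      simp only at hd hdle
      interval_cases d
      · cases b
        · rw [if_neg (fun ⟨g, hg, hg'⟩ => hone g hg _ hf hg' rfl)]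
          exact dvd_half (ev 2).1 e2 (Or.inr (by rw [v1f]))
        · rw [if_pos ⟨_, hf, rfl⟩]
          exact dvd_half (ev 2).1 e1 (Or.inr (by rw [v1t]))
      · cases b
        · exact absurd rfl (hno2 _ hf)
        · split_ifs
          · exact dvd_half (ev 2).1 e1 (Or.inl (by rw [v2t]))
          · exact dvd_half (ev 2).1 e2 (Or.inl (by rw [v2t]))
    · exact ⟨1, q ^ 2 - 1, by simp [L], fun _ => (ev 2).2, by rwa [pow_one], by rwa [pow_one], fun e he =>
        ⟨by rw [pow_one]; exact hm3 e he, Or.inl ((hval e he (hd2 e he)).resolve_left fun h => h21 ⟨e, he, h⟩)⟩⟩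
  -- a block longer than the characteristic
  have hkle : ∀ e ∈ s, e.2 ≤ p ^ 2 := fun e he => by
    obtain ⟨-, -, -, hwk, hwD⟩ := hw e he
    omega
  have hor : c > p ∨ r' + r' - 1 > p ∨ ∃ e ∈ s, e.2 > p := by
    by_contra h
    push Not at h
    exact hmax h
  have hsmall : p ≤ 7 := by
    have := Nat.odd_iff.1 hp2
    rcases hor with h | h | ⟨e, he, h⟩
    · omega
    · omega
    · obtain ⟨-, -, -, hwk, hwD⟩ := hw e he
      omega
  interval_cases hp_eq : p
  · -- characteristic three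
    by_cases h22 : ∃ e ∈ s, e.1.1 = 2
    · obtain ⟨e, he, h22⟩ := h22
      obtain ⟨-, hk, -, -, hwD⟩ := hw e he
      have hwe : wt e = 2 * e.2 := by rw [wt, h22, mul_comm]
      have hex : c = 5 ∧ r' = 0 ∧ e.2 = 1 := by
        rcases hor with h | h | ⟨f, hf, h⟩
        · omega
        · omega
        · obtain ⟨-, -, -, hwk, hwD'⟩ := hw f hf
          by_cases hfe : f = e
          · subst hfe; omega
          · have := h2 e he f hf hfe; omega
      refine ⟨2, val q e.1 / 2, ?_, by omega, by omega, by omega, fun f hf => ⟨hkle f hf, Or.inr ?_⟩⟩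
      · obtain ⟨⟨d, b⟩, k⟩ := e
        obtain rfl : d = 2 := h22
        cases b <;> simp [L, v2f, v2t]
      by_cases hfe : f = e
      · subst hfe; exact ⟨by omega, by omega, dvd_rfl⟩
      · have := h2 e he f hf hfe
        obtain ⟨hfd1, -, hfd, -, -⟩ := hw f hf
        omega
    have hd1 : ∀ e ∈ s, e.1.1 = 1 := fun e he => by
      have := hd2 e he
      have := (hs e he).1
      rcases (show e.1.1 = 1 ∨ e.1.1 = 2 by omega) with h | h
      · exact h
      · exact absurd ⟨e, he, h⟩ h22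
    by_cases hb : ∃ e ∈ s, ∃ f ∈ s, e.1.2 = true ∧ f.1.2 = false
    · obtain ⟨e, he, f, hf, heb, hfb⟩ := hb
      have hne : f ≠ e := fun h => by rw [h, heb] at hfb; exact Bool.noConfusion hfb
      have hsum := h2 e he f hf hne
      obtain ⟨-, hke, -, hwe, -⟩ := hw e he
      obtain ⟨-, hkf, -, hwf, -⟩ := hw f hf
      have hr0 : r' = 0 := by
        rcases hor with h | h | ⟨g, hg, h⟩
        · omega
        · omega
        · obtain ⟨-, -, -, hwk, hwD'⟩ := hw g hg
          by_cases hge : g = e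
          · subst hge; omega
          · have := h2 e he g hg hge; omega
      refine ⟨2, (q ^ 2 - 1) / 2, by simp [L], by omega, by omega, by omega, fun g hg => ⟨hkle g hg, Or.inl ?_⟩⟩
      rw [show g.1 = (1, g.1.2) from Prod.ext (hd1 g hg) rfl]
      exact (hsq _).2.2
    push Not at hb
    refine ⟨2, if (∃ e ∈ s, e.1.2 = true) then q + 1 else q - 1, ?_, fun _ => ?_, by omega, by omega,
      fun g hg => ⟨hkle g hg, Or.inl ?_⟩⟩
    · split_ifs <;> simp [L]
    · split_ifs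
      · exact e1
      · exact e2
    rw [show g.1 = (1, g.1.2) from Prod.ext (hd1 g hg) rfl]
    cases hgb : g.1.2
    · rw [if_neg, v1f]
      rintro ⟨e, he, heb⟩
      exact hb e he g hg heb hgb
    · rw [if_pos ⟨g, hg, hgb⟩, v1t]
  · exact absurd hp (by norm_num)
  · -- characteristic five
    have hD1 : (s.map wt).sum ≤ 1 ∧ ((s.map wt).sum = 1 → c = 7 ∧ r' = 0) := by
      rcases hor with h | h | ⟨e, he, h⟩
      · omega
      · omega
      · obtain ⟨-, -, -, hwk, hwD⟩ := hw e he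
        omega
    rcases s with _ | ⟨e, t⟩
    swap
    · have he : e ∈ e :: t := List.mem_cons_self
      obtain ⟨hd, hk, hwd, hwk, hwD⟩ := hw e he
      refine ⟨2, val q e.1 / 2, ?_, by omega, by omega, by omega, fun f hf => ⟨hkle f hf, Or.inr ?_⟩⟩
      · obtain ⟨⟨d, b⟩, k⟩ := e
        obtain rfl : d = 1 := by simp only at hd hwd; omega
        cases b <;> simp [L, v1f, v1t]
      by_cases hfe : f = e
      · subst hfe; exact ⟨by omega, by omega, dvd_rfl⟩
      · have := h2 e he f hf hfe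
        obtain ⟨hd', -, hfd, -, -⟩ := hw f hf
        omega
    · have := Nat.odd_iff.1 hq
      by_cases h : q % 4 = 1
      · exact ⟨2, (q - 1) / 2, by simp [L], fun _ => by omega, by omega, by omega, fun e he => by simp at he⟩
      · exact ⟨2, (q + 1) / 2, by simp [L], fun _ => by omega, by omega, by omega, fun e he => by simp at he⟩
  · exact absurd hp (by norm_num)
  · -- characteristic seven
    have h7 : r' = 0 ∧ (s.map wt).sum = 0 := by
      rcases hor with h | h | ⟨e, he, h⟩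
      · omega
      · omega
      · obtain ⟨-, -, -, hwk, hwD⟩ := hw e he
        omega
    refine ⟨2, 1, by simp [L], by omega, by omega, by omega, fun e he => ?_⟩
    obtain ⟨hd, -, hwd, -, hwD⟩ := hw e he
    omega

end Cfsg.Agent.SpecNine
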