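import Cfsg.Agent.SpecNine.Semi
import Cfsg.Agent.Classical.AltBasis

/-!
Jordan blocks of a unipotent part commuting with a semiregular isometry.
-/

set_option autoImplicit false

namespace Cfsg.Agent.SpecNine

open Module QuadraticMap Classical.Quad

section poly

variable {F : Type*} [Field F] {V : Type*} [AddCommGroup V] [Module F V]

theorem pow_sub_one (p : ℕ) [Fact p.Prime] [CharP F p] (a : Module.End F V) (j : ℕ) :
    (a - 1) ^ p ^ j = a ^ p ^ j - 1 := by
  have := congrArg (Polynomial.aeval a) (sub_pow_char_pow (R := Polynomial F) Polynomial.X 1 (p := p) (n := j))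
  simpa using this

theorem geom_eq (p : ℕ) [Fact p.Prime] [CharP F p] (a : Module.End F V) (j : ℕ) :
    ∑ i ∈ Finset.range (p ^ j), a ^ i = (a - 1) ^ (p ^ j - 1) := by
  have h1 : (∑ i ∈ Finset.range (p ^ j), (Polynomial.X : Polynomial F) ^ i) = (Polynomial.X - 1) ^ (p ^ j - 1) := by
    refine mul_right_cancel₀ (b := Polynomial.X - 1) (Polynomial.X_sub_C_ne_zero (1 : F)) ?_
    rw [geom_sum_mul, ← pow_succ, Nat.sub_add_cancel (Nat.one_le_pow _ _ (Fact.out : p.Prime).pos),
      sub_pow_char_pow, one_pow]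
  have := congrArg (Polynomial.aeval a) h1
  simpa using this

variable [FiniteDimensional F V]

/-- A non-zero `(k-1)`-st power of a map with vanishing `k`-th power has rank at most `dim / k`. -/
theorem block (N : Module.End F V) {k : ℕ} (hk : 1 ≤ k) (hN : N ^ k = 0) :
    k * finrank F (LinearMap.range (N ^ (k - 1))) ≤ finrank F V := by
  set z := finrank F (LinearMap.range (N ^ (k - 1))) with hz
  have key : ∀ n, n ≤ k → n * z ≤ finrank F (LinearMap.range (N ^ (k - n))) := by
    intro n
    induction n with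
    | zero => intro _; simp
    | succ n ih =>
      intro hn
      set R := LinearMap.range (N ^ (k - (n + 1))) with hR
      have h1 := (N.domRestrict R).finrank_range_add_finrank_ker
      have h2 : LinearMap.range (N.domRestrict R) = LinearMap.range (N ^ (k - n)) := by
        rw [LinearMap.range_domRestrict, hR, ← LinearMap.range_comp]
        congr 1
        rw [show k - n = (k - (n + 1)) + 1 by omega, pow_succ']
        rfl
      have h3 : z ≤ finrank F (LinearMap.ker (N.domRestrict R)) := by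
        rw [hz, ← LinearEquiv.finrank_eq (Submodule.equivMapOfInjective R.subtype R.injective_subtype
          (LinearMap.ker (N.domRestrict R))).symm]
        refine Submodule.finrank_mono ?_
        rintro _ ⟨u, rfl⟩
        refine ⟨⟨(N ^ (k - 1)) u, (N ^ n) u, ?_⟩, ?_, rfl⟩
        · rw [← Module.End.mul_apply, ← pow_add, show k - (n + 1) + n = k - 1 by omega]
        · show N ((N ^ (k - 1)) u) = 0
          rw [← Module.End.mul_apply, ← pow_succ', Nat.sub_add_cancel hk, hN, LinearMap.zero_apply]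
      rw [h2] at h1
      have := ih (by omega)
      rw [add_mul, one_mul]
      omega
  exact (key k le_rfl).trans (Submodule.finrank_le _)

theorem exists_nil (N : Module.End F V) {n : ℕ} (hN : N ^ n = 0) :
    ∃ k, N ^ k = 0 ∧ ∀ i, i < k → N ^ i ≠ 0 := by
  classical
  exact ⟨Nat.find ⟨n, hN⟩, Nat.find_spec (p := fun i => N ^ i = 0) ⟨n, hN⟩, fun i hi => Nat.find_min _ hi⟩

/-- A nilpotent map vanishes in the dimension-th power. -/
theorem pow_finrank_eq_zero (N : Module.End F V) {n : ℕ} (hN : N ^ n = 0) : N ^ finrank F V = 0 := by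
  obtain ⟨k, hk, hmin⟩ := exists_nil N hN
  refine pow_eq_zero_of_le ?_ hk
  rcases Nat.eq_zero_or_pos k with h | h
  · omega
  have hpos : 1 ≤ finrank F (LinearMap.range (N ^ (k - 1))) := by
    rw [Submodule.one_le_finrank_iff, Ne, LinearMap.range_eq_bot]
    exact hmin _ (by omega)
  exact le_trans (Nat.le_mul_of_pos_right k hpos) (block N h hk)

end poly

section iso

variable {F : Type*} [Field F] {V : Type*} [AddCommGroup V] [Module F V] {Q : QuadraticForm F V}

/-- An isometry as an endomorphism. -/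
def en (Q : QuadraticForm F V) : oG Q →* Module.End F V where
  toFun g := g.1.toLinearMap
  map_one' := rfl
  map_mul' _ _ := rfl

theorem en_apply (g : oG Q) (v : V) : en Q g v = g.1 v := rfl

theorem en_pow (g : oG Q) (i : ℕ) (v : V) : ((en Q g) ^ i) v = (g ^ i).1 v := by rw [← map_pow]; rfl

theorem en_injective : Function.Injective (en Q) := fun _ _ h => ext_oG fun x => LinearMap.congr_fun h x

theorem polar_inv (g : oG Q) (u v : V) : polar Q (g.1 u) v = polar Q u ((g⁻¹).1 v) := by
  conv_lhs => rw [show v = g.1 ((g⁻¹).1 v) from (g.1.apply_symm_apply v).symm]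
  rw [polar_oG]

/-- The adjoint of the last non-zero power of `g - 1`. -/
theorem polar_top (g : oG Q) {i : ℕ} (hN : (en Q g - 1) ^ (i + 1) = 0) (u v : V) :
    polar Q (((en Q g - 1) ^ i) u) v = (-1) ^ i * polar Q u (((en Q g - 1) ^ i) v) := by
  set N := en Q g - 1 with hNdef
  set U' := en Q g⁻¹ with hU'
  have h1 : U' * en Q g = 1 := by rw [hU', ← map_mul, inv_mul_cancel, map_one]
  have h1' : en Q g * U' = 1 := by rw [hU', ← map_mul, mul_inv_cancel, map_one]
  have hUN : Commute U' N := (show Commute U' (en Q g) from h1.trans h1'.symm).sub_right (Commute.one_right _)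
  have hfix : U' * N ^ i = N ^ i := by
    have : en Q g * N ^ i = N ^ i := by
      conv_lhs => rw [show en Q g = N + 1 by simp [hNdef]]
      rw [add_mul, one_mul, ← pow_succ', hN, zero_add]
    calc U' * N ^ i = U' * (en Q g * N ^ i) := by rw [this]
      _ = N ^ i := by rw [← mul_assoc, h1, one_mul]
  have hfixj : ∀ j, U' ^ j * N ^ i = N ^ i := fun j => by
    induction j with
    | zero => rw [pow_zero, one_mul]
    | succ j ih => rw [pow_succ, mul_assoc, hfix, ih]
  have hadj : ∀ (j : ℕ) (u v : V), polar Q ((N ^ j) u) v = polar Q u (((U' - 1) ^ j) v) := by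
    intro j
    induction j with
    | zero => intro u v; rfl
    | succ j ih =>
      intro u v
      rw [pow_succ, pow_succ', Module.End.mul_apply, Module.End.mul_apply, ih, hNdef, LinearMap.sub_apply,
        LinearMap.sub_apply, Module.End.one_apply, Module.End.one_apply, polar_sub_left, polar_sub_right,
        en_apply, polar_inv]
      rfl
  have hneg : U' - 1 = -(U' * N) := by rw [hNdef, mul_sub, h1, mul_one, neg_sub]
  rw [hadj, hneg, neg_pow, hUN.mul_pow, hfixj, Module.End.mul_apply]
  rcases Nat.even_or_odd i with he | ho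
  · rw [he.neg_one_pow, he.neg_one_pow, one_mul, Module.End.one_apply]
  · rw [ho.neg_one_pow, ho.neg_one_pow, LinearMap.neg_apply, Module.End.one_apply, polar_neg_right, neg_one_mul]

variable [FiniteDimensional F V]

/-- The restriction of an automorphism to an invariant subspace. -/
noncomputable def resE (f : V ≃ₗ[F] V) (P : Submodule F V) (hP : ∀ x ∈ P, f x ∈ P) : P ≃ₗ[F] P :=
  LinearEquiv.ofInjectiveEndo (LinearMap.restrict (f : V →ₗ[F] V) hP)
    fun a b h => Subtype.ext (f.injective (congrArg Subtype.val h))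

theorem resE_apply (f : V ≃ₗ[F] V) (P : Submodule F V) (hP : ∀ x ∈ P, f x ∈ P) (x : P) :
    ((resE f P hP x : P) : V) = f x := rfl

theorem resE_pow (f : V ≃ₗ[F] V) (P : Submodule F V) (hP : ∀ x ∈ P, f x ∈ P) :
    ∀ (i : ℕ) (x : P), (((resE f P hP ^ i) x : P) : V) = (f ^ i) x
  | 0, _ => rfl
  | i + 1, x => by rw [pow_succ, pow_succ, LinearEquiv.mul_apply, LinearEquiv.mul_apply, resE_pow f P hP i, resE_apply]

theorem sq_fix_eq_zero {S : oG Q} (h1 : ∀ v, S.1 v = v → v = 0) (hm1 : ∀ v, S.1 v = -v → v = 0) {v : V}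
    (h : S.1 v - (S⁻¹).1 v = 0) : v = 0 := by
  have h' : S.1 (S.1 v) = v := by
    rw [sub_eq_zero] at h
    rw [h]
    exact S.1.apply_symm_apply v
  refine hm1 v (eq_neg_of_add_eq_zero_left (h1 _ ?_))
  rw [map_add, h', add_comm]

/-- An isometry without eigenvalues `1` and `-1` lives in even dimension. -/
theorem even_dim (hQ : (polarBilin Q).Nondegenerate) {S : oG Q} (h1 : ∀ v, S.1 v = v → v = 0)
    (hm1 : ∀ v, S.1 v = -v → v = 0) : ∃ j, finrank F V = 2 * j := by
  let B : LinearMap.BilinForm F V := (polarBilin Q).comp (en Q S - en Q S⁻¹)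
  have hB : ∀ u v, B u v = polar Q (S.1 u - (S⁻¹).1 u) v := fun u v => rfl
  obtain ⟨m, -, -, -, hm⟩ := Classical.Alt.exists_sympBasis (B := B) (fun u => by
    rw [hB, polar_sub_left, polar_inv S⁻¹, inv_inv, polar_comm, sub_self]) ⊤ (fun u _ hu => by
    by_contra h
    push Not at h
    exact hu (sq_fix_eq_zero h1 hm1 (eq_zero_of_polar hQ fun v => (hB u v).symm.trans (h v trivial))))
  exact ⟨m, finrank_top F V ▸ hm⟩

variable [Finite F] [Finite V]

open Cfsg.Agent.FormOrder in
/-- The order of a semiregular isometry, and the length of the blocks of a unipotent one commuting with it. -/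
theorem semi_piece (hQ : (polarBilin Q).Nondegenerate) (h2 : (2 : F) ≠ 0) [Nontrivial V] {S U : oG Q}
    (hSU : Commute S U) (hS : Semi S) (h1 : ∀ v, S.1 v = v → v = 0) (hm1 : ∀ v, S.1 v = -v → v = 0)
    (hcop : (orderOf S).Coprime (Nat.card F)) {n : ℕ} (hU : (en Q U - 1) ^ n = 0) :
    ∃ (d : ℕ) (b : Bool) (k : ℕ), 1 ≤ d ∧ 1 ≤ k ∧ k * (2 * d) ≤ finrank F V ∧ (en Q U - 1) ^ k = 0 ∧
      orderOf S ∣ val (Nat.card F) (d, b) ∧
      (2 * d = finrank F V → spin Q S = 1 → 2 * orderOf S ∣ val (Nat.card F) (d, b)) := by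
  set N := en Q U - 1 with hNdef
  obtain ⟨k, hk, hmin⟩ := exists_nil N hU
  have hk1 : 1 ≤ k := by
    rcases Nat.eq_zero_or_pos k with rfl | h
    · exact absurd hk one_ne_zero
    · exact h
  obtain ⟨j, hj⟩ := even_dim hQ h1 hm1
  have hj1 : 1 ≤ j := by have := Module.finrank_pos (R := F) (M := V); omega
  by_cases hk2 : k = 1
  · subst hk2
    obtain ⟨b, -, hdvd, hspin⟩ := semi_bound hQ h2 (k := j - 1) (by omega) hS hcop
    rw [Nat.sub_add_cancel hj1] at hdvd hspin
    exact ⟨j, b, 1, hj1, le_rfl, by omega, hk, hdvd, fun _ => hspin⟩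
  set T := N ^ (k - 1) with hT
  have hT0 : T ≠ 0 := hmin _ (by omega)
  have hTsym : ∀ u v, polar Q (T u) v = (-1) ^ (k - 1) * polar Q u (T v) :=
    polar_top U (by rwa [Nat.sub_add_cancel hk1])
  have hST : Commute (en Q S) T := (((hSU.map (en Q)).sub_right (Commute.one_right _)).pow_right _)
  have hST' : Commute (en Q S⁻¹) T := ((((hSU.inv_left).map (en Q)).sub_right (Commute.one_right _)).pow_right _)
  set D := en Q S - en Q S⁻¹ with hD
  have hDT : Commute D T := hST.sub_left hST'
  have hDsym : ∀ u v, polar Q (D u) v = -polar Q u (D v) := fun u v => by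
    rw [hD, LinearMap.sub_apply, LinearMap.sub_apply, polar_sub_left, polar_sub_right, en_apply, en_apply, en_apply,
      en_apply, polar_inv S, polar_inv S⁻¹, inv_inv]
    ring
  obtain ⟨T', hsym, hker, hcomm⟩ : ∃ T' : Module.End F V, (∀ u v, polar Q (T' u) v = polar Q u (T' v)) ∧
      (∀ u, T' u = 0 ↔ T u = 0) ∧ Commute (en Q S) T' := by
    rcases Nat.even_or_odd (k - 1) with he | ho
    · exact ⟨T, fun u v => by rw [hTsym, he.neg_one_pow, one_mul], fun u => Iff.rfl, hST⟩
    · refine ⟨D * T, fun u v => ?_, fun u => ?_, ?_⟩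
      · have e : (D * T) v = T (D v) := LinearMap.congr_fun hDT.eq v
        rw [e, Module.End.mul_apply, hDsym, hTsym, ho.neg_one_pow, neg_one_mul, neg_neg]
      · rw [Module.End.mul_apply]
        exact ⟨fun h => sq_fix_eq_zero h1 hm1 h, fun h => by rw [h, map_zero]⟩
      · exact ((Commute.refl (en Q S)).sub_right (((Commute.refl S).inv_right).map (en Q))).mul_right hST
  set Z := LinearMap.range T' with hZ
  have hZd : finrank F Z = finrank F (LinearMap.range T) := by
    have e1 := T'.finrank_range_add_finrank_ker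
    have e2 := T.finrank_range_add_finrank_ker
    rw [show LinearMap.ker T' = LinearMap.ker T from Submodule.ext hker] at e1
    rw [hZ]
    omega
  obtain ⟨σ, hσ⟩ := T'.rangeRestrict.exists_rightInverse_of_surjective T'.range_rangeRestrict
  have hσ' : ∀ z : Z, T' (σ z) = z := fun z => congrArg Subtype.val (LinearMap.congr_fun hσ z)
  let β : LinearMap.BilinForm F Z := (polarBilin Q).compl₁₂ Z.subtype σ
  have hβ : ∀ (z w : Z) (u v : V), T' u = z → T' v = w → β z w = polar Q (T' u) v := fun z w u v hu hv => by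
    show polar Q (z : V) (σ w) = _
    rw [← hu, hsym, hsym, hσ', hv]
  have hsurj : ∀ z : Z, ∃ u, T' u = z := fun z => z.2
  let R : QuadraticForm F Z := LinearMap.BilinMap.toQuadraticMap β
  have hR : ∀ z, R z = β z z := fun z => rfl
  have hRpol : ∀ z w, polar R z w = 2 * β z w := fun z w => by
    obtain ⟨u, hu⟩ := hsurj z
    obtain ⟨v, hv⟩ := hsurj w
    have : β w z = β z w := by rw [hβ w z v u hv hu, hβ z w u v hu hv, hsym u v, polar_comm]
    simp only [polar, hR, map_add, LinearMap.add_apply]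
    rw [this]
    ring
  have hRn : (polarBilin R).Nondegenerate := nondeg_of fun z hz => by
    obtain ⟨u, hu⟩ := hsurj z
    refine Subtype.ext (hu.symm.trans (eq_zero_of_polar hQ fun v => ?_))
    have := hz ⟨T' v, v, rfl⟩
    rw [hRpol, hβ z _ u v hu rfl] at this
    exact (mul_eq_zero.1 this).resolve_left h2
  have hPZ : ∀ x ∈ Z, S.1 x ∈ Z := by
    rintro _ ⟨u, rfl⟩
    exact ⟨S.1 u, (LinearMap.congr_fun hcomm.eq u).symm⟩
  let g : oG R := ⟨resE S.1 Z hPZ, fun z => by
    obtain ⟨u, hu⟩ := hsurj z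
    have hgz : T' (S.1 u) = ((resE S.1 Z hPZ z : Z) : V) := by
      rw [resE_apply, ← hu]
      exact (LinearMap.congr_fun hcomm.eq u).symm
    rw [hR, hR, hβ _ _ _ _ hgz hgz, hgz, resE_apply, hβ z z u u hu hu, ← hu, polar_oG]⟩
  have hgpow : ∀ (i : ℕ) (z : Z), (((g ^ i).1 z : Z) : V) = (S ^ i).1 z := fun i z => by
    rw [SubgroupClass.coe_pow, SubgroupClass.coe_pow]
    exact resE_pow _ _ _ i z
  have hZne : Nontrivial Z := by
    refine Module.nontrivial_of_finrank_pos (R := F) ?_
    rw [hZd]
    exact Submodule.one_le_finrank_iff.2 fun h => hT0 (LinearMap.range_eq_bot.1 h)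
  obtain ⟨z₀, hz₀⟩ := exists_ne (0 : Z)
  have hgi : ∀ i (z : Z), z ≠ 0 → (g ^ i).1 z = z → S ^ i = 1 := fun i z hz h =>
    hS i z (fun h0 => hz (Subtype.ext h0)) (by rw [← hgpow, h])
  have hgS : Semi g := fun i z hz h => ext_oG fun w => Subtype.ext (by rw [hgpow, hgi i z hz h]; rfl)
  have hord : orderOf g = orderOf S := orderOf_eq_orderOf_iff.2 fun i =>
    ⟨fun h => hgi i z₀ hz₀ (by rw [h]; rfl), fun h => ext_oG fun w => Subtype.ext (by rw [hgpow, h]; rfl)⟩
  obtain ⟨i, hi⟩ := even_dim hRn (S := g)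
    (fun z h => Subtype.ext (h1 z (congrArg Subtype.val h)))
    (fun z h => Subtype.ext (hm1 z (congrArg Subtype.val h)))
  have hi1 : 1 ≤ i := by have := Module.finrank_pos (R := F) (M := Z); omega
  obtain ⟨b, -, hdvd, -⟩ := semi_bound hRn h2 (k := i - 1) (by omega) hgS (hord ▸ hcop)
  rw [Nat.sub_add_cancel hi1, hord] at hdvd
  have hle := block N hk1 hk
  rw [← hT, ← hZd, hi] at hle
  refine ⟨i, b, k, hi1, hk1, hle, hk, hdvd, fun h => absurd h ?_⟩
  have h3 : 2 * (2 * i) ≤ k * (2 * i) := Nat.mul_le_mul_right _ (show 2 ≤ k by omega)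
  omega

end iso

end Cfsg.Agent.SpecNine
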