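import Cfsg.Agent.SpecNine.Pieces
import Cfsg.Agent.SpecNine.Arith

/-!
The element orders of the nine-dimensional orthogonal group in odd characteristic divide the listed ones.
-/

set_option autoImplicit false

namespace Cfsg.Agent.SpecNine

open Module QuadraticMap Classical.Quad
open Classical.OrthElem (qres NdOn nondeg_qres)

universe u v

variable {F : Type u} [Field F] {V : Type v} [AddCommGroup V] [Module F V] {Q : QuadraticForm F V}

/-- Minus the identity. -/
def negO (Q : QuadraticForm F V) : oG Q := ⟨LinearEquiv.neg F, fun x => QuadraticMap.map_neg Q x⟩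

theorem negO_apply (x : V) : (negO Q).1 x = -x := rfl

theorem negO_sq : negO Q ^ 2 = 1 := ext_oG fun x => by rw [pow_two, oG_mul_apply]; exact neg_neg x

theorem negO_comm (g : oG Q) : Commute (negO Q) g := ext_oG fun x => by
  rw [oG_mul_apply, oG_mul_apply, negO_apply, negO_apply, map_neg]

theorem negO_mul_self (g : oG Q) : negO Q * (negO Q * g) = g := by
  rw [← mul_assoc, ← pow_two, negO_sq, one_mul]

theorem sign_hom_eq_one {G : Type*} [Monoid G] (f : G →* ℤˣ) {g : G} {n : ℕ} (hn : Odd n) (h : g ^ n = 1) :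
    f g = 1 := by
  have h1 := congrArg f h
  rw [map_pow, map_one] at h1
  rcases Int.units_eq_one_or (f g) with h2 | h2
  · exact h2
  · rw [h2, hn.neg_one_pow] at h1
    exact absurd h1 (by decide)

theorem sum_periodic {R : Type*} [Ring R] (E : R) {k : ℕ} (h : E ^ k = 1) :
    ∀ M : ℕ, ∑ i ∈ Finset.range (k * M), E ^ i = M • ∑ i ∈ Finset.range k, E ^ i
  | 0 => by simp
  | M + 1 => by
    rw [Nat.mul_succ, Finset.sum_range_add, sum_periodic E h M, succ_nsmul]
    refine congrArg _ (Finset.sum_congr rfl fun i _ => ?_)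
    rw [pow_add, pow_mul, h, one_pow, one_mul]

variable [FiniteDimensional F V]

theorem restrict_pow (N : Module.End F V) {K : Submodule F V} (hK : ∀ z ∈ K, N z ∈ K) :
    ∀ (i : ℕ) (z : K), ((((N.restrict hK : Module.End F K) ^ i) z : K) : V) = (N ^ i) z
  | 0, _ => rfl
  | i + 1, z => by
    rw [pow_succ', pow_succ', Module.End.mul_apply, Module.End.mul_apply, ← restrict_pow N hK i]
    rfl

/-- A unipotent isometry has no block as long as the whole space in even dimension. -/
theorem no_even_block (hQ : (polarBilin Q).Nondegenerate) (h2 : (2 : F) ≠ 0) {u : oG Q} {n r : ℕ}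
    (hr : finrank F V = r) (hev : Even r) (hu : (en Q u - 1) ^ n = 0) : (en Q u - 1) ^ (r - 1) = 0 := by
  set N := en Q u - 1 with hNdef
  have hN : N ^ r = 0 := hr ▸ pow_finrank_eq_zero N hu
  rcases Nat.eq_zero_or_pos r with h | h
  · subst h; exact hN
  by_contra hT
  have hblock := block N h hN
  rw [hr] at hblock
  have hpos : 1 ≤ finrank F (LinearMap.range (N ^ (r - 1))) :=
    Submodule.one_le_finrank_iff.2 fun h' => hT (LinearMap.range_eq_bot.1 h')
  have hone : finrank F (LinearMap.range (N ^ (r - 1))) = 1 := by nlinarith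
  have hodd : Odd (r - 1) := by
    obtain ⟨k, hk⟩ := hev
    exact ⟨k - 1, by omega⟩
  have hskew : ∀ a b, polar Q ((N ^ (r - 1)) a) b = -polar Q a ((N ^ (r - 1)) b) := fun a b => by
    rw [polar_top u (by rwa [Nat.sub_add_cancel h]), hodd.neg_one_pow, neg_one_mul]
  obtain ⟨w, hw⟩ : ∃ w, (N ^ (r - 1)) w ≠ 0 := by
    by_contra h'
    push Not at h'
    exact hT (LinearMap.ext h')
  have hmul : ∀ a, ∃ s : F, s • (N ^ (r - 1)) w = (N ^ (r - 1)) a := fun a => by
    obtain ⟨s, hs⟩ := (finrank_eq_one_iff_of_nonzero' (⟨(N ^ (r - 1)) w, w, rfl⟩ : LinearMap.range (N ^ (r - 1)))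
      (fun h' => hw (congrArg Subtype.val h'))).1 hone ⟨(N ^ (r - 1)) a, a, rfl⟩
    exact ⟨s, congrArg Subtype.val hs⟩
  have hww : polar Q w ((N ^ (r - 1)) w) = 0 := by
    have h' := hskew w w
    rw [polar_comm] at h'
    exact (mul_eq_zero.1 (by linear_combination h' : (2 : F) * polar Q w ((N ^ (r - 1)) w) = 0)).resolve_left h2
  refine hw (eq_zero_of_polar hQ fun b => ?_)
  obtain ⟨t, ht⟩ := hmul b
  rw [hskew, ← ht, polar_smul_right, hww, smul_zero, neg_zero]

variable [Finite F] [Finite V]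

set_option maxHeartbeats 1000000 in
/-- The bound on element orders, with the vanishing of the norm map on the perp of an anisotropic fixed vector. -/
theorem exists_bound (p : ℕ) [Fact p.Prime] [CharP F p] (hQ : (polarBilin Q).Nondegenerate) (h2 : (2 : F) ≠ 0)
    (hV : finrank F V = 9) (x : oG Q) (hd : dickson hQ (hex_of_two h2 _) x = 1) (hs : spin Q x = 1) :
    ∃ P ∈ L (Nat.card F) p, x ^ (p ^ P.1 * P.2) = 1 ∧ ∀ e, Q e ≠ 0 → x.1 e = e → ∀ v, polar Q v e = 0 →
      ∑ i ∈ Finset.range (p ^ P.1 * P.2), (x ^ i).1 v = 0 := by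
  have hp := (Fact.out : p.Prime)
  have hp2 : Odd p := hp.odd_of_ne_two fun h => h2 (by
    subst h
    exact CharTwo.two_eq_zero)
  haveI := Fintype.ofFinite F
  obtain ⟨f, -, hf⟩ := FiniteField.card F p
  have hq : Nat.card F = p ^ (f : ℕ) := Nat.card_eq_fintype_card.trans hf
  obtain ⟨a, m, hpm, hxo⟩ := Nat.exists_eq_pow_mul_and_not_dvd (orderOf_pos x).ne' p hp.ne_one
  have hpco : p.Coprime m := hp.coprime_iff_not_dvd.2 hpm
  have hma : (p ^ a).Coprime m := hpco.pow_left a
  have hmq : m.Coprime (Nat.card F) := by rw [hq]; exact (hpco.pow_left _).symm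
  have hmF : (m : F) ≠ 0 := fun h => hpm ((CharP.cast_eq_zero_iff F p m).1 h)
  have hx : x ^ (m * p ^ a) = 1 := by rw [mul_comm, ← hxo, pow_orderOf_eq_one]
  have hSm : (x ^ p ^ a) ^ m = 1 := by rw [← pow_mul, mul_comm, hx]
  -- the fixed space of the semisimple part
  obtain ⟨W, R, hW, hR, hWn, hRn, hWmem, hc, hdim, hperp, hdx, hsx⟩ :=
    split hQ h2 (x := x) (a := x ^ p ^ a) ((Commute.refl x).pow_right _) hmF hSm
  have hWu : resO x W hW ^ p ^ a = 1 := ext_oG fun z => Subtype.ext (by rw [resO_pow]; exact (hWmem z).1 z.2)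
  have hpa : Odd (p ^ a) := hp2.pow
  have hdW := sign_hom_eq_one (dickson (nondeg_qres hWn) (hex_of_two h2 _)) hpa hWu
  have hsW := sign_hom_eq_one (spin (qres Q W)) hpa hWu
  rw [hd, hdW, one_mul] at hdx
  rw [hs, hsW, one_mul] at hsx
  set g := resO x R hR with hg
  have hgx : g ^ (m * p ^ a) = 1 := resO_pow_eq_one x R hR hx
  have hR1 : ∀ z : R, (g ^ p ^ a).1 z = z → z = 0 := fun z hz => Subtype.ext
    (Submodule.disjoint_def.1 hc.disjoint z ((hWmem z).2 (by rw [← resO_pow x R hR, ← hg, hz])) z.2)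
  have hRev : Even (finrank F R) := by
    have hfix : fixSub g = ⊥ := (Submodule.eq_bot_iff _).2 fun z hz => hR1 z (by
      rw [mem_fixSub] at hz
      have : ∀ i, (g ^ i).1 z = z := fun i => by
        induction i with
        | zero => rfl
        | succ i ih => rw [pow_succ, oG_mul_apply, hz, ih]
      exact this _)
    by_contra hodd
    rw [Nat.not_even_iff_odd] at hodd
    have h' : dsign g = 1 := hdx.symm
    rw [dsign, hfix, finrank_bot, add_zero, hodd.neg_one_pow] at h'
    exact absurd h' (by decide)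
  -- the eigenvalue minus one of the semisimple part
  set A := negO (qres Q R) * g ^ p ^ a with hA
  have hm2 : ((2 * m : ℕ) : F) ≠ 0 := by rw [Nat.cast_mul, Nat.cast_two]; exact mul_ne_zero h2 hmF
  have hAm : A ^ (2 * m) = 1 := by
    rw [hA, (negO_comm _).mul_pow, pow_mul, negO_sq, one_pow, one_mul, mul_comm 2 m, pow_mul,
      ← pow_mul g (p ^ a) m, mul_comm (p ^ a) m, hgx, one_pow]
  obtain ⟨E, R₁, hE, hR₁, hEn, hR₁n, hEmem, hc₁, hdim₁, -, -, hsg⟩ :=
    split (nondeg_qres hRn) h2 (x := g) (a := A) ((negO_comm g).symm.mul_right ((Commute.refl g).pow_right _))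
      hm2 hAm
  have hEneg : ∀ z ∈ E, (g ^ p ^ a).1 z = -z := fun z hz => by
    have := (hEmem z).1 hz
    rw [hA, oG_mul_apply, negO_apply, neg_eq_iff_eq_neg] at this
    exact this
  set g₁ := resO g R₁ hR₁ with hg₁
  have h11 : ∀ z : R₁, (g₁ ^ p ^ a).1 z = z → z = 0 := fun z hz =>
    Subtype.ext (hR1 z (by rw [← resO_pow g R₁ hR₁, ← hg₁, hz]))
  have h1m : ∀ z : R₁, (g₁ ^ p ^ a).1 z = -z → z = 0 := fun z hz => Subtype.ext
    (Submodule.disjoint_def.1 hc₁.disjoint z.1 ((hEmem z.1).2 (by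
      rw [hA, oG_mul_apply, negO_apply, ← resO_pow g R₁ hR₁, ← hg₁, hz, Submodule.coe_neg, neg_neg])) z.2)
  obtain ⟨j₁, hj₁⟩ := even_dim (nondeg_qres hR₁n) h11 h1m
  obtain ⟨s, hs1, hs2, hs3⟩ := pieces p h2 hmq hmF hma _ rfl (nondeg_qres hR₁n) g₁
    (resO_pow_eq_one g R₁ hR₁ hgx) h11 h1m
  have hEev : Even (finrank F E) := by
    obtain ⟨k, hk⟩ := hRev
    exact ⟨k - j₁, by omega⟩
  obtain ⟨j, M, hL, hM2, hcj, hrj, hpc⟩ := exists_target (q := Nat.card F) (p := p) (odd_card h2) hp hp2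
    (c := finrank F W) (r := finrank F E)
    (by obtain ⟨k, hk⟩ := hRev; exact ⟨(finrank F W - 1) / 2, by omega⟩) hEev s hs1
    (by show _ + _ + 2 * (s.map fun e => e.2 * e.1.1).sum ≤ 9; omega)
  -- the unipotent part on the fixed space
  have hWN : (en (qres Q W) (resO x W hW) - 1) ^ finrank F W = 0 :=
    pow_finrank_eq_zero _ (n := p ^ a) (by rw [pow_sub_one p, ← map_pow, hWu, map_one, sub_self])
  have hWj : resO x W hW ^ p ^ j = 1 := en_injective (by
    rw [map_pow, map_one, ← sub_eq_zero, ← pow_sub_one p]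
    exact pow_eq_zero_of_le hcj hWN)
  -- the power
  have hgE : resO g E hE ^ (M * p ^ j) = 1 := by
    rcases Nat.eq_zero_or_pos (finrank F E) with h0 | h0
    · haveI : Subsingleton E := Module.finrank_zero_iff.1 h0
      exact ext_oG fun z => Subsingleton.elim _ _
    set u := negO (qres (qres Q R) E) * resO g E hE with hu
    have hu1 : u ^ p ^ a = 1 := ext_oG fun z => Subtype.ext (by
      rw [hu, (negO_comm _).mul_pow, oG_mul_apply]
      have hneg : negO (qres (qres Q R) E) ^ p ^ a = negO _ := by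
        obtain ⟨k, hk⟩ := hpa
        rw [hk, pow_succ, pow_mul, negO_sq, one_pow, one_mul]
      rw [hneg, negO_apply, Submodule.coe_neg, resO_pow, hEneg _ z.2, neg_neg]
      rfl)
    have hu0 : (en (qres (qres Q R) E) u - 1) ^ p ^ a = 0 := by
      rw [pow_sub_one p, ← map_pow, hu1, map_one]
      exact LinearMap.ext fun z => sub_self z
    have huN := no_even_block (nondeg_qres hEn) h2 rfl hEev hu0
    have huj : u ^ p ^ j = 1 := en_injective (by
      rw [map_pow, map_one, ← sub_eq_zero, ← pow_sub_one p]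
      exact pow_eq_zero_of_le hrj huN)
    obtain ⟨M', hM'⟩ := hM2 h0
    rw [← negO_mul_self (resO g E hE), ← hu, (negO_comm u).mul_pow, mul_comm M, pow_mul u, huj, one_pow, mul_one,
      hM', show p ^ j * (2 * M') = 2 * (p ^ j * M') by ring, pow_mul, negO_sq, one_pow]
  have hg₁M : g₁ ^ (M * p ^ j) = 1 := hs3 M j fun e he => by
    obtain ⟨hk, h | ⟨hr0, h9, h⟩⟩ := hpc e he
    · exact ⟨hk, Or.inl h⟩
    · refine ⟨hk, Or.inr ⟨?_, by omega, h⟩⟩
      haveI : Subsingleton E := Module.finrank_zero_iff.1 hr0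
      rw [show resO g E hE = 1 from ext_oG fun z => Subsingleton.elim _ _, map_one, one_mul, ← hsx] at hsg
      exact hsg.symm
  have hgM : g ^ (M * p ^ j) = 1 := ext_oG fun z => by
    obtain ⟨z₁, hz₁, z₂, hz₂, rfl⟩ := Submodule.mem_sup.1
      (hc₁.sup_eq_top.symm ▸ Submodule.mem_top (x := z) : z ∈ E ⊔ R₁)
    rw [map_add, oG_one_apply, ← resO_pow g E hE _ ⟨z₁, hz₁⟩, hgE, ← resO_pow g R₁ hR₁ _ ⟨z₂, hz₂⟩, ← hg₁, hg₁M]
    rfl
  have hxM : x ^ (p ^ j * M) = 1 := ext_oG fun z => by
    obtain ⟨z₁, hz₁, z₂, hz₂, rfl⟩ := Submodule.mem_sup.1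
      (hc.sup_eq_top.symm ▸ Submodule.mem_top (x := z) : z ∈ W ⊔ R)
    rw [map_add, oG_one_apply, ← resO_pow x W hW _ ⟨z₁, hz₁⟩, pow_mul, hWj, one_pow, ← resO_pow x R hR _ ⟨z₂, hz₂⟩,
      ← hg, mul_comm, hgM]
    rfl
  refine ⟨(j, M), hL, hxM, fun e he hxe v hv => ?_⟩
  dsimp only
  set n := p ^ j * M with hn
  have hxi : ∀ i, (x ^ i).1 e = e := fun i => by
    induction i with
    | zero => rfl
    | succ i ih => rw [pow_succ, oG_mul_apply, hxe, ih]
  have heW : e ∈ W := (hWmem e).2 (hxi _)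
  obtain ⟨v₁, hv₁, v₂, hv₂, rfl⟩ := Submodule.mem_sup.1
    (hc.sup_eq_top.symm ▸ Submodule.mem_top (x := v) : v ∈ W ⊔ R)
  have hv1e : polar Q v₁ e = 0 := by
    rwa [polar_add_left, polar_comm Q v₂, hperp e heW v₂ hv₂, add_zero] at hv
  simp only [map_add, Finset.sum_add_distrib]
  have hsum2 : ∑ i ∈ Finset.range n, (x ^ i).1 v₂ = 0 := by
    have hval : ∑ i ∈ Finset.range n, (x ^ i).1 v₂ = (((∑ i ∈ Finset.range n, en (qres Q R) g ^ i) ⟨v₂, hv₂⟩ : R) : V) := by
      rw [LinearMap.sum_apply, Submodule.coe_sum]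
      exact Finset.sum_congr rfl fun i _ => by rw [en_pow, hg, resO_pow]
    rw [hval]
    refine congrArg Subtype.val (hR1 _ ?_)
    set w := (∑ i ∈ Finset.range n, en (qres Q R) g ^ i) ⟨v₂, hv₂⟩
    have hw : g.1 w = w := by
      have h' := LinearMap.congr_fun (mul_geom_sum (en (qres Q R) g) n) ⟨v₂, hv₂⟩
      rw [← map_pow, hg, resO_pow_eq_one x R hR hxM, map_one, sub_self, LinearMap.zero_apply, Module.End.mul_apply,
        LinearMap.sub_apply, Module.End.one_apply, sub_eq_zero, ← hg] at h'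
      exact h'
    have : ∀ i, (g ^ i).1 w = w := fun i => by
      induction i with
      | zero => rfl
      | succ i ih => rw [pow_succ, oG_mul_apply, hw, ih]
    exact this _
  have hsum1 : ∑ i ∈ Finset.range n, (x ^ i).1 v₁ = 0 := by
    have hval : ∑ i ∈ Finset.range n, (x ^ i).1 v₁ =
        (((∑ i ∈ Finset.range n, en (qres Q W) (resO x W hW) ^ i) ⟨v₁, hv₁⟩ : W) : V) := by
      rw [LinearMap.sum_apply, Submodule.coe_sum]
      exact Finset.sum_congr rfl fun i _ => by rw [en_pow, resO_pow]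
    rw [hval, hn, sum_periodic _ (by rw [← map_pow, hWj, map_one]), geom_eq p]
    set N := en (qres Q W) (resO x W hW) - 1 with hN
    let eW : W := ⟨e, heW⟩
    let K : Submodule F W := LinearMap.ker (polarBilin (qres Q W) eW)
    have hKmem : ∀ z : W, z ∈ K ↔ polar Q e z = 0 := fun z => Iff.rfl
    have hKN : ∀ z ∈ K, N z ∈ K := fun z hz => by
      rw [hKmem] at hz ⊢
      show polar Q e (x.1 z - z) = 0
      rw [polar_sub_right, hz, sub_zero]
      conv_lhs => rw [← hxe, polar_oG]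
      exact hz
    have hKlt : finrank F K < finrank F W := Submodule.finrank_lt fun htop => he (by
      have := (hKmem eW).1 (htop ▸ Submodule.mem_top)
      rw [polar_self'] at this
      exact (mul_eq_zero.1 this).resolve_left h2)
    have hKnil : ((N.restrict hKN : Module.End F K)) ^ finrank F W = 0 := LinearMap.ext fun z => Subtype.ext (by
      rw [restrict_pow, hWN]; rfl)
    have h' := congrArg (fun w : K => (w : W)) (LinearMap.congr_fun
      (pow_eq_zero_of_le (show finrank F K ≤ p ^ j - 1 by omega) (pow_finrank_eq_zero _ hKnil))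
      ⟨⟨v₁, hv₁⟩, by rw [hKmem, polar_comm]; exact hv1e⟩)
    simp only [restrict_pow] at h'
    rw [LinearMap.smul_apply, h']
    simp
  rw [hsum1, hsum2, add_zero]

end Cfsg.Agent.SpecNine
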