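import Cfsg.Agent.SpecNine.Block

/-!
Cutting an isometry without eigenvalues `1` and `-1` of its semisimple part into semiregular pieces.
-/

set_option autoImplicit false

namespace Cfsg.Agent.SpecNine

open Module QuadraticMap Classical.Quad
open Classical.OrthElem (qres NdOn nondeg_qres QGood fixed_decomp orth mem_orth)
open Classical.SympElem (fx mv mem_fx fx_apply)

universe u v

variable {F : Type u} [Field F] {V : Type v} [AddCommGroup V] [Module F V] {Q : QuadraticForm F V}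
  [FiniteDimensional F V]

/-- The restriction of an isometry to an invariant subspace. -/
noncomputable def resO (g : oG Q) (P : Submodule F V) (hP : ∀ x ∈ P, g.1 x ∈ P) : oG (qres Q P) :=
  ⟨resE g.1 P hP, fun x => by
    show Q ((resE g.1 P hP x : P) : V) = Q (x : V)
    rw [resE_apply]
    exact g.2 _⟩

theorem resO_apply (g : oG Q) (P : Submodule F V) (hP : ∀ x ∈ P, g.1 x ∈ P) (x : P) :
    (((resO g P hP).1 x : P) : V) = g.1 x := rfl

theorem resO_pow (g : oG Q) (P : Submodule F V) (hP : ∀ x ∈ P, g.1 x ∈ P) (i : ℕ) (x : P) :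
    ((((resO g P hP) ^ i).1 x : P) : V) = (g ^ i).1 x := by
  rw [SubgroupClass.coe_pow, SubgroupClass.coe_pow]
  exact resE_pow _ _ _ i x

theorem resO_pow_eq_one (g : oG Q) (P : Submodule F V) (hP : ∀ x ∈ P, g.1 x ∈ P) {i : ℕ} (h : g ^ i = 1) :
    resO g P hP ^ i = 1 :=
  ext_oG fun x => Subtype.ext (by rw [resO_pow, h]; rfl)

variable [Finite F] [Finite V]

/-- Splitting along the fixed space of a commuting isometry of order prime to the characteristic. -/
theorem split (hQ : (polarBilin Q).Nondegenerate) (h2 : (2 : F) ≠ 0) {x a : oG Q} (hxa : Commute x a) {r : ℕ}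
    (hr : (r : F) ≠ 0) (har : a ^ r = 1) :
    ∃ (P P' : Submodule F V) (hP : ∀ v ∈ P, x.1 v ∈ P) (hP' : ∀ v ∈ P', x.1 v ∈ P')
      (hN : NdOn Q P) (hN' : NdOn Q P'), (∀ v, v ∈ P ↔ a.1 v = v) ∧ IsCompl P P' ∧
      finrank F P + finrank F P' = finrank F V ∧ (∀ v ∈ P, ∀ w ∈ P', polar Q v w = 0) ∧
      dickson hQ (hex_of_two h2 _) x =
        dickson (nondeg_qres hN) (hex_of_two h2 _) (resO x P hP) *
          dickson (nondeg_qres hN') (hex_of_two h2 _) (resO x P' hP') ∧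
      spin Q x = spin (qres Q P) (resO x P hP) * spin (qres Q P') (resO x P' hP') := by
  have hG : QGood Q (en Q a) := ⟨hQ, fun v => a.2 v⟩
  obtain ⟨hc, ho, hN, hN'⟩ := fixed_decomp hG hr (by rw [← map_pow, har, map_one])
  have hcomm : Commute (en Q x) (en Q a - 1) := ((hxa.map (en Q))).sub_right (Commute.one_right _)
  have hP : ∀ v ∈ fx (en Q a), x.1 v ∈ fx (en Q a) := fun v hv => by
    rw [fx, LinearMap.mem_ker] at hv ⊢
    rw [← en_apply x, ← Module.End.mul_apply, ← hcomm.eq, Module.End.mul_apply, hv, map_zero]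
  have hP' : ∀ v ∈ mv (en Q a), x.1 v ∈ mv (en Q a) := by
    rintro _ ⟨u, rfl⟩
    exact ⟨x.1 u, (LinearMap.congr_fun hcomm.eq u).symm⟩
  have hperp : ∀ v ∈ fx (en Q a), ∀ w ∈ mv (en Q a), polar Q v w = 0 := fun v hv w hw => by
    rw [polar_comm]
    exact mem_orth.1 (ho.symm ▸ hw) v hv
  have hdim : finrank F (fx (en Q a)) + finrank F (mv (en Q a)) = finrank F V :=
    Submodule.finrank_add_eq_of_isCompl hc
  obtain ⟨π, φ, -, hπu, hφ, hchar⟩ := AutPOmega.exists_extend hQ h2 _ (nondeg_qres hN)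
  obtain ⟨π', φ', -, hπu', hφ', hchar'⟩ := AutPOmega.exists_extend hQ h2 _ (nondeg_qres hN')
  have hx : x = φ (resO x _ hP) * φ' (resO x _ hP') := ext_oG fun v => by
    obtain ⟨p, hp, w, hw, rfl⟩ := Submodule.mem_sup.1
      (hc.sup_eq_top.symm ▸ Submodule.mem_top (x := v) : v ∈ fx (en Q a) ⊔ mv (en Q a))
    have hπ : ∀ w' ∈ mv (en Q a), π (p + w') = ⟨p, hp⟩ := fun w' hw' => hπu _ _ fun b => by
      rw [polar_add_left, polar_comm Q w', hperp _ b.2 _ hw', add_zero]
    have hπ' : π' (p + w) = ⟨w, hw⟩ := hπu' _ _ fun b => by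
      rw [polar_add_left, hperp _ hp _ b.2, zero_add]
    have e' : (φ' (resO x _ hP')).1 (p + w) = p + x.1 w := by
      refine (hφ' _ _).trans ?_
      rw [hπ']
      show x.1 w + (p + w - w) = _
      abel
    have e : (φ (resO x _ hP)).1 (p + x.1 w) = x.1 p + x.1 w := by
      refine (hφ _ _).trans ?_
      rw [hπ _ (hP' w hw)]
      show x.1 p + (p + x.1 w - p) = _
      abel
    rw [oG_mul_apply, e', e, map_add]
  refine ⟨_, _, hP, hP', hN, hN', fun v => ⟨fun h => fx_apply h, fun h => mem_fx h⟩, hc, hdim, hperp, ?_, ?_⟩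
  · have e := (congrArg (dickson hQ (hex_of_two h2 _)) hx).trans (map_mul _ _ _)
    exact e.trans (congrArg₂ (· * ·) (hchar (resO x _ hP)).1 (hchar' (resO x _ hP')).1)
  · have e := (congrArg (spin Q) hx).trans (map_mul _ _ _)
    exact e.trans (congrArg₂ (· * ·) (hchar (resO x _ hP)).2 (hchar' (resO x _ hP')).2)

open Cfsg.Agent.FormOrder in
/-- The semiregular pieces: the orders and the block lengths. -/
theorem pieces (p : ℕ) [Fact p.Prime] [CharP F p] (h2 : (2 : F) ≠ 0) {m a : ℕ} (hm : m.Coprime (Nat.card F))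
    (hmF : (m : F) ≠ 0) (hma : (p ^ a).Coprime m) :
    ∀ (n : ℕ) {V : Type v} [AddCommGroup V] [Module F V] [FiniteDimensional F V] [Finite V]
      {Q : QuadraticForm F V}, finrank F V = n → (polarBilin Q).Nondegenerate → ∀ x : oG Q,
      x ^ (m * p ^ a) = 1 → (∀ v, (x ^ p ^ a).1 v = v → v = 0) → (∀ v, (x ^ p ^ a).1 v = -v → v = 0) →
      ∃ s : List ((ℕ × Bool) × ℕ), (∀ e ∈ s, 1 ≤ e.1.1 ∧ 1 ≤ e.2) ∧
        2 * (s.map fun e => e.2 * e.1.1).sum ≤ n ∧
        ∀ M j : ℕ, (∀ e ∈ s, e.2 ≤ p ^ j ∧ (val (Nat.card F) e.1 ∣ M ∨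
          (spin Q x = 1 ∧ 2 * e.1.1 = n ∧ val (Nat.card F) e.1 / 2 ∣ M))) → x ^ (M * p ^ j) = 1 := by
  intro n
  induction n using Nat.strong_induction_on with
  | _ n ih => ?_
  intro V _ _ _ _ Q hn hQ x hx h1 hm1
  rcases subsingleton_or_nontrivial V with hV | hV
  · exact ⟨[], by simp, by simp, fun M j _ => ext_oG fun v => Subsingleton.elim _ _⟩
  set S := x ^ p ^ a with hS
  have hSm : S ^ m = 1 := by rw [hS, ← pow_mul, mul_comm, hx]
  by_cases hsemi : Semi S
  · have hU : (en Q (x ^ m) - 1) ^ p ^ a = 0 := by rw [pow_sub_one p, ← map_pow, ← pow_mul, hx, map_one, sub_self]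
    obtain ⟨d, b, k, hd, hk, hle, hN, hdvd, hhalf⟩ := semi_piece hQ h2
      ((Commute.refl x).pow_pow (p ^ a) m) hsemi h1 hm1
      (hm.coprime_dvd_left (orderOf_dvd_of_pow_eq_one hSm)) hU
    refine ⟨[((d, b), k)], by simp [hd, hk], ?_, fun M j hM => ?_⟩
    · simp only [List.map_cons, List.map_nil, List.sum_cons, List.sum_nil, add_zero]
      rw [← hn]
      calc 2 * (k * d) = k * (2 * d) := by ring
        _ ≤ _ := hle
    obtain ⟨hkj, hM⟩ := hM _ (List.mem_singleton.2 rfl)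
    have hSM : S ^ M = 1 := by
      refine orderOf_dvd_iff_pow_eq_one.1 ?_
      rcases hM with h | ⟨hsp, hd2, h⟩
      · exact hdvd.trans h
      · exact (Nat.dvd_div_of_mul_dvd (hhalf (hd2.trans hn.symm)
          (by rw [map_pow, hsp, one_pow]))).trans h
    have hUj : (x ^ m) ^ p ^ j = 1 := en_injective (by
      rw [map_pow, map_one, ← sub_eq_zero, ← pow_sub_one p]
      exact pow_eq_zero_of_le hkj hN)
    have e1 : (x ^ (M * p ^ j)) ^ p ^ a = 1 := by
      rw [← pow_mul, show M * p ^ j * p ^ a = p ^ a * M * p ^ j by ring, pow_mul, pow_mul, ← hS, hSM, one_pow]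
    have e2 : (x ^ (M * p ^ j)) ^ m = 1 := by
      rw [← pow_mul, show M * p ^ j * m = m * p ^ j * M by ring, pow_mul, pow_mul, hUj, one_pow]
    simpa [Nat.Coprime.gcd_eq_one hma] using pow_gcd_eq_one.2 ⟨e1, e2⟩
  obtain ⟨i, v, hv0, hv, hne⟩ : ∃ (i : ℕ) (v : V), v ≠ 0 ∧ (S ^ i).1 v = v ∧ S ^ i ≠ 1 := by
    simp only [Semi, not_forall] at hsemi
    obtain ⟨i, v, hv0, hv, hne⟩ := hsemi
    exact ⟨i, v, hv0, hv, hne⟩
  obtain ⟨P, P', hP, hP', hN, hN', hmem, hc, hdim, -, -, -⟩ := split hQ h2 (x := x) (a := S ^ i)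
    (((Commute.refl x).pow_right _).pow_right i) hmF
    (by rw [← pow_mul, mul_comm, pow_mul, hSm, one_pow])
  have hPlt : finrank F P < n := by
    rw [← hn]
    refine Submodule.finrank_lt fun htop => hne (ext_oG fun w => ?_)
    rw [oG_one_apply]
    exact (hmem w).1 (htop ▸ Submodule.mem_top)
  have hPpos : 0 < finrank F P :=
    Module.finrank_pos_iff_exists_ne_zero.2 ⟨⟨v, (hmem v).2 hv⟩, fun h => hv0 (congrArg Subtype.val h)⟩
  have hres : ∀ (W : Submodule F V) (hW : ∀ w ∈ W, x.1 w ∈ W),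
      (∀ w : W, ((resO x W hW) ^ p ^ a).1 w = w → w = 0) ∧
        ∀ w : W, ((resO x W hW) ^ p ^ a).1 w = -w → w = 0 := fun W hW =>
    ⟨fun w h => Subtype.ext (h1 w (by rw [← resO_pow x W hW, h])),
      fun w h => Subtype.ext (hm1 w (by rw [← resO_pow x W hW, h]; rfl))⟩
  obtain ⟨s, hs1, hs2, hs3⟩ := ih _ hPlt rfl (nondeg_qres hN) (resO x P hP) (resO_pow_eq_one x P hP hx)
    (hres P hP).1 (hres P hP).2
  obtain ⟨s', hs1', hs2', hs3'⟩ := ih _ (show finrank F P' < n by omega) rfl (nondeg_qres hN') (resO x P' hP')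
    (resO_pow_eq_one x P' hP' hx) (hres P' hP').1 (hres P' hP').2
  refine ⟨s ++ s', fun e he => (List.mem_append.1 he).elim (hs1 e) (hs1' e), ?_, fun M j hM => ?_⟩
  · rw [List.map_append, List.sum_append]
    omega
  have hfull : ∀ e ∈ s ++ s', e.2 ≤ p ^ j ∧ val (Nat.card F) e.1 ∣ M := fun e he => by
    obtain ⟨hkj, h | ⟨-, h, -⟩⟩ := hM e he
    · exact ⟨hkj, h⟩
    · exfalso
      have hle : 2 * e.1.1 ≤ finrank F P ∨ 2 * e.1.1 ≤ finrank F P' := by
        have key : ∀ (t : List ((ℕ × Bool) × ℕ)), (∀ f ∈ t, 1 ≤ f.1.1 ∧ 1 ≤ f.2) → e ∈ t →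
            e.1.1 ≤ (t.map fun e => e.2 * e.1.1).sum := fun t ht het =>
          le_trans (Nat.le_mul_of_pos_left _ (ht e het).2)
            (List.le_sum_of_mem (List.mem_map.2 ⟨e, het, rfl⟩))
        rcases List.mem_append.1 he with he | he
        · exact Or.inl (le_trans (Nat.mul_le_mul_left 2 (key s hs1 he)) hs2)
        · exact Or.inr (le_trans (Nat.mul_le_mul_left 2 (key s' hs1' he)) hs2')
      omega
  refine ext_oG fun w => ?_
  obtain ⟨u, hu, u', hu', rfl⟩ := Submodule.mem_sup.1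
    (hc.sup_eq_top.symm ▸ Submodule.mem_top (x := w) : w ∈ P ⊔ P')
  have e1 := hs3 M j fun e he => ⟨(hfull e (List.mem_append_left _ he)).1,
    Or.inl (hfull e (List.mem_append_left _ he)).2⟩
  have e2 := hs3' M j fun e he => ⟨(hfull e (List.mem_append_right _ he)).1,
    Or.inl (hfull e (List.mem_append_right _ he)).2⟩
  rw [map_add, oG_one_apply, ← resO_pow x P hP _ ⟨u, hu⟩, e1, ← resO_pow x P' hP' _ ⟨u', hu'⟩, e2]
  rfl

end Cfsg.Agent.SpecNine
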