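import Cfsg.Agent.AutPOmega.SemisimpleSpin
import Cfsg.Agent.Classical.OrthElem.Count
import Cfsg.Agent.FormOrder.Arith

/-!
Isometries acting semiregularly on the non-zero vectors: their orders and their spinor norms.
-/

set_option autoImplicit false

namespace Cfsg.Agent.SpecNine

open Module QuadraticMap Classical Classical.Quad Cfsg.Agent.FormOrder

variable {F : Type*} [Field F] [Finite F] {V : Type*} [AddCommGroup V] [Module F V] [FiniteDimensional F V]
  {Q : QuadraticForm F V}

/-- Every power fixing a non-zero vector is trivial. -/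
def Semi (g : oG Q) : Prop := ∀ (i : ℕ) (v : V), v ≠ 0 → (g ^ i).1 v = v → g ^ i = 1

theorem odd_card (h2 : (2 : F) ≠ 0) : Odd (Nat.card F) := by
  rw [Nat.odd_iff]
  by_contra hq
  refine h2 ?_
  haveI := Fintype.ofFinite F
  have : ringChar F = 2 := FiniteField.even_card_iff_char_two.2 (by
    rw [← Nat.card_eq_fintype_card]; omega)
  haveI : CharP F 2 := this ▸ ringChar.charP F
  exact CharTwo.two_eq_zero

instance finite_oG' [Finite V] (Q : QuadraticForm F V) : Finite (oG Q) :=
  Finite.of_injective (fun g : oG Q => (g.1 : V → V)) fun g h e => Subtype.ext (LinearEquiv.ext (congrFun e))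

open scoped _root_.Classical in
/-- The vectors of norm one and the singular vectors, by type. -/
theorem card_typed (hQ : (polarBilin Q).Nondegenerate) {k : ℕ} (hV : finrank F V = 2 * (k + 1)) :
    ∃ b : Bool, (b = true ↔ ¬ OrthElem.Plus Q ⊤) ∧
      Nat.card (NormOne Q) = Nat.card F ^ k * val (Nat.card F) (k + 1, b) ∧
      zcard Q - 1 = val (Nat.card F) (k + 1, b) * (if b then Nat.card F ^ k - 1 else Nat.card F ^ k + 1) := by
  haveI : Finite V := Module.finite_of_finite F
  haveI := Fintype.ofFinite F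
  haveI := Fintype.ofFinite V
  set q := Nat.card F with hq
  have hqF : Fintype.card F = q := (Nat.card_eq_fintype_card).symm
  have hq2 : 2 ≤ q := Finite.one_lt_card
  have hcls : ∀ a : F, a ≠ 0 → Nat.card {x : V // Q x = a} = Nat.card (NormOne Q) := fun a ha => by
    obtain ⟨e, he⟩ := iso_smul_even hQ hV (inv_ne_zero ha)
    refine Nat.card_congr (e.toEquiv.subtypeEquiv fun x => ?_)
    have h := he x
    rw [QuadraticMap.smul_apply, smul_eq_mul] at h
    show Q x = a ↔ Q (e x) = 1
    rw [h, inv_mul_eq_one₀ ha, eq_comm]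
  have hsum : zcard Q + (q - 1) * Nat.card (NormOne Q) = q ^ (2 * (k + 1)) := by
    have h1 : Nat.card V = ∑ a : F, Nat.card {x : V // Q x = a} := by
      rw [← Nat.card_sigma]
      exact Nat.card_congr (Equiv.sigmaFiberEquiv (fun x => Q x)).symm
    rw [← Finset.add_sum_erase _ _ (Finset.mem_univ 0),
      Finset.sum_congr rfl (fun a ha => hcls a (Finset.ne_of_mem_erase ha)), Finset.sum_const,
      Finset.card_erase_of_mem (Finset.mem_univ _), Finset.card_univ, hqF, smul_eq_mul,
      Module.natCard_eq_pow_finrank (K := F), hV] at h1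
    exact h1.symm
  have hz1 : 1 ≤ zcard Q :=
    Nat.one_le_iff_ne_zero.2 (Nat.card_ne_zero.2 ⟨⟨⟨0, QuadraticMap.map_zero _⟩⟩, inferInstance⟩)
  obtain ⟨p, hp⟩ : ∃ p, q = p + 1 := ⟨q - 1, by omega⟩
  have hpk : 1 ≤ q ^ k := Nat.one_le_pow _ _ (by omega)
  have hpk1 : 1 ≤ q ^ (k + 1) := Nat.one_le_pow _ _ (by omega)
  have hp0 : 0 < p := by omega
  by_cases hplus : OrthElem.Plus Q ⊤
  · have hz := OrthElem.zcard_plus_eq hQ hV hplus
    rw [hqF] at hz
    refine ⟨false, by simp [hplus], ?_, by simpa [val] using hz⟩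
    simp only [val, Bool.false_eq_true, if_false]
    refine Nat.eq_of_mul_eq_mul_left hp0 ?_
    obtain ⟨A, hA⟩ := Nat.exists_eq_add_of_le hpk1
    rw [hA, Nat.add_sub_cancel_left] at hz ⊢
    rw [show q - 1 = p by omega] at hsum
    have e1 : q ^ (2 * (k + 1)) = (1 + A) * (1 + A) := by rw [two_mul, pow_add, hA]
    have e2 : (p + 1) * q ^ k = 1 + A := by rw [← hp, ← hA, pow_succ']
    obtain ⟨Z, hZ⟩ := Nat.exists_eq_add_of_le hz1
    rw [hZ, Nat.add_sub_cancel_left] at hz
    rw [hZ, e1] at hsum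
    nlinarith [hsum, hz, e2]
  · have hz := OrthElem.zcard_minus_eq hQ hV hplus
    rw [hqF] at hz
    refine ⟨true, by simp [hplus], ?_, by simpa [val] using hz⟩
    simp only [val, if_true]
    refine Nat.eq_of_mul_eq_mul_left hp0 ?_
    rw [show q - 1 = p by omega] at hsum
    obtain ⟨B, hB⟩ := Nat.exists_eq_add_of_le hpk
    obtain ⟨Z, hZ⟩ := Nat.exists_eq_add_of_le hz1
    rw [hB, Nat.add_sub_cancel_left, hZ, Nat.add_sub_cancel_left] at hz
    rw [hZ, two_mul, pow_add] at hsum
    have e2 : q ^ (k + 1) = (p + 1) * q ^ k := by rw [← hp, pow_succ']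
    rw [e2, hB] at hsum hz ⊢
    nlinarith [hsum, hz]

/-- A permutation all whose cycles have one length. -/
theorem sign_free' {X : Type*} [Fintype X] [DecidableEq X] (σ : Equiv.Perm X) {L : ℕ} (hL : 2 ≤ L)
    (hσ : σ ^ L = 1) (hfree : ∀ j, 0 < j → j < L → ∀ x, (σ ^ j) x ≠ x) :
    ∃ k, Fintype.card X = k * L ∧ Equiv.Perm.sign σ = (-1) ^ (k * L + k) := by
  have hsupp : σ.support = Finset.univ := by
    refine Finset.eq_univ_of_forall fun x => Equiv.Perm.mem_support.2 fun h => ?_
    exact hfree 1 one_pos (by omega) x (by rwa [pow_one])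
  have htype : ∀ c ∈ σ.cycleType, c = L := by
    intro c hc
    have hdvd : c ∣ L := (Equiv.Perm.dvd_of_mem_cycleType hc).trans (orderOf_dvd_of_pow_eq_one hσ)
    obtain ⟨g, τ, hgτ, hd, hg, hgc⟩ := Equiv.Perm.mem_cycleType_iff.1 hc
    obtain ⟨x, hx⟩ := Finset.card_pos.1 (show 0 < g.support.card from
      Nat.lt_of_lt_of_le two_pos hg.two_le_card_support)
    have hτx : τ x = x := ((hd x).resolve_left (Equiv.Perm.mem_support.1 hx))
    have hxc : (σ ^ c) x = x := by
      rw [hgτ, hd.commute.mul_pow, Equiv.Perm.mul_apply, Equiv.Perm.pow_apply_eq_self_of_apply_eq_self hτx,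
        ← hgc, ← hg.orderOf, pow_orderOf_eq_one, Equiv.Perm.one_apply]
    by_contra hne
    exact hfree c (by rw [← hgc]; exact Nat.lt_of_lt_of_le two_pos hg.two_le_card_support)
      (lt_of_le_of_ne (Nat.le_of_dvd (by omega) hdvd) hne) x hxc
  have hrep : σ.cycleType = Multiset.replicate σ.cycleType.card L := Multiset.eq_replicate_card.2 htype
  have hsum : σ.cycleType.sum = σ.cycleType.card * L := by
    conv_lhs => rw [hrep]
    rw [Multiset.sum_replicate, smul_eq_mul]
  refine ⟨σ.cycleType.card, by rw [← hsum, Equiv.Perm.sum_cycleType, hsupp, Finset.card_univ], ?_⟩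
  rw [Equiv.Perm.sign_of_cycleType, hsum]

open scoped _root_.Classical in
/-- The order and the spinor norm of a semiregular isometry. -/
theorem semi_bound (hQ : (polarBilin Q).Nondegenerate) (h2 : (2 : F) ≠ 0) [Finite V] {k : ℕ}
    (hV : finrank F V = 2 * (k + 1)) {g : oG Q} (hg : Semi g) (hcop : (orderOf g).Coprime (Nat.card F)) :
    ∃ b : Bool, (b = true ↔ ¬ OrthElem.Plus Q ⊤) ∧ orderOf g ∣ val (Nat.card F) (k + 1, b) ∧
      (spin Q g = 1 → 2 * orderOf g ∣ val (Nat.card F) (k + 1, b)) := by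
  obtain ⟨b, hb, hN, -⟩ := card_typed hQ hV
  refine ⟨b, hb, ?_⟩
  set q := Nat.card F with hq
  set n := orderOf g with hn
  have hqodd : Odd q := odd_card h2
  have hveven : 2 ∣ val q (k + 1, b) := by
    have : Odd (q ^ (k + 1)) := hqodd.pow
    rw [Nat.odd_iff] at this
    cases b <;> simp only [val, Bool.false_eq_true, if_false, if_true] <;> omega
  by_cases hn1 : n ≤ 1
  · have : 0 < n := orderOf_pos g
    have hn' : n = 1 := by omega
    rw [hn']
    exact ⟨one_dvd _, fun _ => by simpa using hveven⟩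
  let _ : Fintype (NormOne Q) := Fintype.ofFinite _
  obtain ⟨K, hK, hs⟩ := sign_free' (permOne Q g) (L := n) (by omega) (by rw [← map_pow, pow_orderOf_eq_one, map_one])
    fun j hj hjn x hx => by
      rw [← map_pow] at hx
      have hx0 : x.1 ≠ 0 := fun h => zero_ne_one (α := F) (by rw [← QuadraticMap.map_zero Q, ← h]; exact x.2)
      have := Nat.le_of_dvd hj (orderOf_dvd_of_pow_eq_one (hg j x.1 hx0 (congrArg Subtype.val hx)))
      omega
  rw [← Nat.card_eq_fintype_card, hN] at hK
  have hdvd : n ∣ val q (k + 1, b) := (hcop.pow_right k).dvd_of_dvd_mul_left ⟨K, by rw [hK, mul_comm]⟩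
  refine ⟨hdvd, fun hsp => ?_⟩
  rcases Nat.even_or_odd n with he | ho
  · have hspin : spin Q g = (-1 : ℤˣ) ^ (K * n + K) := hs
    rw [hsp] at hspin
    have hKev : Even K := by
      by_contra h
      rw [Nat.not_even_iff_odd] at h
      rw [((he.mul_left K).add_odd h).neg_one_pow] at hspin
      exact absurd hspin (by decide)
    obtain ⟨K', rfl⟩ := hKev
    have hcop' : (2 * n).Coprime (q ^ k) :=
      Nat.Coprime.pow_right k (Nat.Coprime.mul_left (Nat.coprime_two_left.2 hqodd) hcop)
    exact hcop'.dvd_of_dvd_mul_left ⟨K', by rw [hK]; ring⟩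
  · exact (Nat.coprime_two_left.2 ho).mul_dvd_of_dvd_of_dvd hveven hdvd

end Cfsg.Agent.SpecNine
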