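import Cfsg.Agent.SpecNine.Semi
import Cfsg.Agent.SpecSpEight.Witness
import Cfsg.Agent.Classical.OrthChar

/-!
Semiregular torus elements of both even types in odd characteristic, and their spinor norms.
-/

set_option autoImplicit false

namespace Cfsg.Agent.SpecNine

open Module QuadraticMap Classical.Quad Cfsg.Agent.FormOrder
open Classical.OrthElem (Plus TS iso_of_plus)
open SpecSpEight (prodO prodO_injective oCongr_apply')

universe u v w

variable {F : Type u} [Field F] [Finite F] {W : Type v} [AddCommGroup W] [Module F W] [FiniteDimensional F W]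
  {R : QuadraticForm F W} {U : Type w} [AddCommGroup U] [Module F U] [FiniteDimensional F U] {S : QuadraticForm F U}
  [Finite W] [Finite U]

/-- An isometry of order `M` with trivial Dickson invariant and the given spinor norm. -/
def El (R : QuadraticForm F W) (M : ℕ) (s : ℤˣ) : Prop :=
  ∃ g : oG R, orderOf g = M ∧ dsign g = 1 ∧ spin R g = s

theorem El.one (R : QuadraticForm F W) : El R 1 1 := ⟨1, orderOf_one, dsign_one, map_one _⟩

theorem oCongr_rO (e : W ≃ₗ[F] U) (he : ∀ x, S (e x) = R x) {v : W} (hv : R v ≠ 0) :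
    ∃ hv' : S (e v) ≠ 0, oCongr e he (rO hv) = rO hv' := by
  have hv' : S (e v) ≠ 0 := by rwa [he]
  refine ⟨hv', ext_oG fun y => ?_⟩
  obtain ⟨y, rfl⟩ := e.surjective y
  rw [oCongr_apply' e he, rO_apply, rO_apply, map_sub, map_smul]
  simp only [polar, ← map_add, he]

theorem chars_congr (hR : (polarBilin R).Nondegenerate) (h2 : (2 : F) ≠ 0) (e : W ≃ₗ[F] U)
    (he : ∀ x, S (e x) = R x) (g : oG R) :
    dsign (oCongr e he g) = dsign g ∧ spin S (oCongr e he g) = spin R g := by
  have hS : (polarBilin S).Nondegenerate := Iso.nondeg ⟨e, he⟩ hR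
  obtain ⟨h1, h3⟩ := chars_of_refl_hom hR (hex_of_two h2 _) hS (hex_of_two h2 _) (oCongr e he).toMonoidHom
    (fun w hw => by
      obtain ⟨hw', h⟩ := oCongr_rO e he hw
      exact ⟨e w, hw', he w, h⟩) g
  exact ⟨h1, h3 h2⟩

theorem El.congr (hR : (polarBilin R).Nondegenerate) (h2 : (2 : F) ≠ 0) (h : Iso R S) {M : ℕ} {s : ℤˣ}
    (hg : El R M s) : El S M s := by
  obtain ⟨e, he⟩ := h
  obtain ⟨g, hg, hd, hs⟩ := hg
  exact ⟨oCongr e he g, by rw [MulEquiv.orderOf_eq, hg], (chars_congr hR h2 e he g).1.trans hd,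
    (chars_congr hR h2 e he g).2.trans hs⟩

omit [Finite F] [FiniteDimensional F W] [FiniteDimensional F U] [Finite W] [Finite U] in
theorem nondeg_prod (hR : (polarBilin R).Nondegenerate) (hS : (polarBilin S).Nondegenerate) :
    (polarBilin (R.prod S)).Nondegenerate :=
  nondeg_of fun x hx => Prod.ext
    (eq_zero_of_polar hR fun y => by simpa [polar] using hx (y, 0))
    (eq_zero_of_polar hS fun y => by simpa [polar] using hx (0, y))

theorem chars_prod (hR : (polarBilin R).Nondegenerate) (hS : (polarBilin S).Nondegenerate) (h2 : (2 : F) ≠ 0)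
    (g : oG R) (h : oG S) :
    dsign (prodO R S (g, h)) = dsign g * dsign h ∧ spin (R.prod S) (prodO R S (g, h)) = spin R g * spin S h := by
  have hn := nondeg_prod hR hS
  have hl : ∀ (v : W) (hv : R v ≠ 0), ∃ (v' : W × U) (hv' : (R.prod S) v' ≠ 0), (R.prod S) v' = R v ∧
      (prodO R S).comp (MonoidHom.inl _ _) (rO hv) = rO hv' := fun v hv => by
    have he : (R.prod S) (v, 0) = R v := by simp
    refine ⟨(v, 0), by rwa [he], he, ext_oG fun y => ?_⟩
    show ((rO hv).1 y.1, y.2) = _
    rw [rO_apply, rO_apply, he, show polar (R.prod S) y (v, 0) = polar R y.1 v by simp [polar]]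
    exact Prod.ext (by simp) (by simp)
  have hr : ∀ (v : U) (hv : S v ≠ 0), ∃ (v' : W × U) (hv' : (R.prod S) v' ≠ 0), (R.prod S) v' = S v ∧
      (prodO R S).comp (MonoidHom.inr _ _) (rO hv) = rO hv' := fun v hv => by
    have he : (R.prod S) (0, v) = S v := by simp
    refine ⟨(0, v), by rwa [he], he, ext_oG fun y => ?_⟩
    show (y.1, (rO hv).1 y.2) = _
    rw [rO_apply, rO_apply, he, show polar (R.prod S) y (0, v) = polar S y.2 v by simp [polar]]
    exact Prod.ext (by simp) (by simp)
  obtain ⟨a1, a2⟩ := chars_of_refl_hom hR (hex_of_two h2 _) hn (hex_of_two h2 _) _ hl g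
  obtain ⟨b1, b2⟩ := chars_of_refl_hom hS (hex_of_two h2 _) hn (hex_of_two h2 _) _ hr h
  have e : prodO R S (g, h) = prodO R S (g, 1) * prodO R S (1, h) := by rw [← map_mul]; simp
  rw [e]
  exact ⟨(dsign_mul hn (hex_of_two h2 _) _ _).trans (congrArg₂ (· * ·) a1 b1),
    (map_mul _ _ _).trans (congrArg₂ (· * ·) (a2 h2) (b2 h2))⟩

theorem El.prod (hR : (polarBilin R).Nondegenerate) (hS : (polarBilin S).Nondegenerate) (h2 : (2 : F) ≠ 0)
    {M N : ℕ} {s s' : ℤˣ} (hg : El R M s) (hh : El S N s') : El (R.prod S) (Nat.lcm M N) (s * s') := by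
  obtain ⟨g, hg, hd, hs⟩ := hg
  obtain ⟨h, hh, hd', hs'⟩ := hh
  obtain ⟨c1, c2⟩ := chars_prod hR hS h2 g h
  exact ⟨prodO R S (g, h), by rw [orderOf_injective _ (prodO_injective R S), Prod.orderOf_mk, hg, hh],
    by rw [c1, hd, hd', one_mul], by rw [c2, hs, hs']⟩

omit [Finite F] [FiniteDimensional F U] [Finite W] [Finite U] [FiniteDimensional F W] in
theorem plus_hyp (d : ℕ) : Plus (hyp (zeroForm F) d) ⊤ := by
  refine ⟨stdSing (Fin 0 → F) d, le_top, fun w hw => stdSing_singular _ d w hw, ?_⟩
  rw [finrank_stdSing, finrank_top]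
  simp only [Module.finrank_prod, Module.finrank_fin_fun]
  omega

omit [FiniteDimensional F U] [Finite W] [Finite U] [FiniteDimensional F W] in
theorem not_plus_hyp {a b : F} (hab : ∀ z₁ z₂ : F, z₁ ^ 2 + a * z₁ * z₂ + b * z₂ ^ 2 = 0 → z₁ = 0 ∧ z₂ = 0)
    (k : ℕ) : ¬ Plus (hyp (binForm a b) k) ⊤ := by
  rintro ⟨X, -, hX, hd⟩
  have := aniso_index (nondeg_binForm hab) (fun _ h => by_contra fun hz => binForm_ne_zero hab hz h) k X hX
  rw [finrank_top] at hd
  simp only [Module.finrank_prod, Module.finrank_fin_fun, Module.finrank_self] at hd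
  omega

/-- A semiregular element of maximal order on an even-dimensional space moves to the standard form of its type. -/
theorem tor_of (hR : (polarBilin R).Nondegenerate) (hS : (polarBilin S).Nondegenerate) (h2 : (2 : F) ≠ 0) {d : ℕ}
    (hd : 1 ≤ d) (hW : finrank F W = 2 * d) (hU : finrank F U = 2 * d) {b : Bool} {t : oG R} (ht : Semi t)
    (hord : orderOf t = val (Nat.card F) (d, b)) (hR' : b = false → Plus R ⊤)
    (hS' : Plus S ⊤ ↔ b = false) : El S (val (Nat.card F) (d, b)) (-1) := by
  set q := Nat.card F with hq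
  have hq3 : 3 ≤ q := by
    have := Nat.odd_iff.1 (odd_card h2)
    have : 1 < q := Finite.one_lt_card
    omega
  have hqd : 3 ≤ q ^ d := le_trans hq3 (Nat.le_self_pow (by omega) q)
  have hqodd : Odd (q ^ d) := (odd_card h2).pow
  have hlt : 1 < val q (d, b) := by cases b <;> simp [val] <;> omega
  have hcop : (orderOf t).Coprime q := by
    rw [hord]
    refine Nat.Coprime.coprime_dvd_right (dvd_pow_self q (show d ≠ 0 by omega)) ?_
    cases b
    · show (q ^ d - 1).Coprime (q ^ d)
      have h := (Nat.coprime_self_sub_left (show 1 ≤ q ^ d by omega)).2 (Nat.coprime_one_left (q ^ d))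
      exact h
    · show (q ^ d + 1).Coprime (q ^ d)
      exact Nat.coprime_self_add_left.2 (Nat.coprime_one_left _)
  obtain ⟨b', hb', hdvd, hspin⟩ := semi_bound hR h2 (k := d - 1) (by omega) ht hcop
  rw [Nat.sub_add_cancel hd, hord, ← hq] at hdvd hspin
  have hbb : b' = b := by
    cases b <;> cases b'
    · rfl
    · exact absurd (hR' rfl) (hb'.1 rfl)
    · exfalso
      have := Nat.le_of_dvd (by simp [val]; omega) hdvd
      simp [val] at this
      omega
    · rfl
  subst hbb
  have hdick : dsign t = 1 := by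
    have : fixSub t = ⊥ := (Submodule.eq_bot_iff _).2 fun z hz => by
      by_contra h0
      rw [mem_fixSub] at hz
      have h1 := ht 1 z h0 (by rwa [pow_one])
      rw [pow_one] at h1
      rw [h1, orderOf_one] at hord
      omega
    rw [dsign, this, finrank_bot, add_zero, hW, pow_mul]
    simp
  refine El.congr hR h2 (iso_of_plus hR hS hW hU ?_) ⟨t, hord, hdick,
    (Int.units_eq_one_or _).resolve_left fun h => ?_⟩
  · rw [hS']
    cases b' <;> simp_all
  · have := Nat.le_of_dvd (by omega) (hspin h)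
    omega

variable [Fintype F]

set_option maxHeartbeats 1000000 in
/-- An element of order `q ^ d - 1` of spinor norm minus one. -/
theorem exists_plus (p : ℕ) [Fact p.Prime] [CharP F p] (h2 : (2 : F) ≠ 0) {d : ℕ} (hd : 1 ≤ d) :
    El (hyp (zeroForm F) d) (Nat.card F ^ d - 1) (-1) := by
  classical
  haveI : NeZero d := ⟨by omega⟩
  let K := FiniteField.Extension F p d
  haveI : Finite K := Module.finite_of_finite F
  have hcard : Nat.card Kˣ = Nat.card F ^ d - 1 := by
    rw [Nat.card_units, FiniteField.natCard_extension]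
  obtain ⟨ζ, hζ⟩ : ∃ ζ : Kˣ, orderOf ζ = Nat.card F ^ d - 1 := by
    obtain ⟨g, hg⟩ := IsCyclic.exists_ofOrder_eq_natCard (α := Kˣ)
    exact ⟨g, hg.trans hcard⟩
  let R : QuadraticForm F (K × K) :=
    LinearMap.BilinMap.toQuadraticMap (LinearMap.compl₁₂ ((LinearMap.mul F K).compr₂ (Algebra.trace F K))
      (LinearMap.fst F K K) (LinearMap.snd F K K))
  have hR : ∀ x : K × K, R x = Algebra.trace F K (x.1 * x.2) := fun x => rfl
  have hpol : ∀ x y : K × K, polar R x y =
      Algebra.trace F K (x.1 * y.2) + Algebra.trace F K (y.1 * x.2) := fun x y => by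
    show R (x + y) - R x - R y = _
    simp only [hR, Prod.fst_add, Prod.snd_add, add_mul, mul_add, map_add]
    ring
  have hRn : (polarBilin R).Nondegenerate := nondeg_of fun x hx => by
    have hN := traceForm_nondegenerate F K
    refine Prod.ext (hN.1 _ fun y => ?_) (hN.1 _ fun y => ?_)
    · have := hx (0, y)
      simpa [hpol, Algebra.traceForm_apply] using this
    · have := hx (y, 0)
      rw [hpol] at this
      simpa [Algebra.traceForm_apply, mul_comm] using this
  have hfr : finrank F (K × K) = 2 * d := by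
    rw [Module.finrank_prod, FiniteField.finrank_extension, two_mul]
  let θ : Kˣ →* oG R :=
    { toFun := fun u => ⟨LinearEquiv.ofLinearMap
        ((LinearMap.mulLeft F (u : K)).prodMap (LinearMap.mulLeft F ((u⁻¹ : Kˣ) : K)))
        ((LinearMap.mulLeft F ((u⁻¹ : Kˣ) : K)).prodMap (LinearMap.mulLeft F (u : K)))
        (LinearMap.ext fun x => by simp [← mul_assoc]) (LinearMap.ext fun x => by simp [← mul_assoc]),
        fun x => by
          show R (_, _) = R x
          rw [hR, hR]
          simp only [LinearMap.coe_comp, Function.comp_apply, LinearMap.fst_apply, LinearMap.snd_apply,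
            LinearMap.mulLeft_apply]
          congr 1
          rw [mul_mul_mul_comm, Units.mul_inv, one_mul]⟩
      map_one' := Subtype.ext (LinearEquiv.ext fun x => by simp)
      map_mul' := fun a c => Subtype.ext (LinearEquiv.ext fun x => by simp [LinearEquiv.mul_apply, mul_comm,
        mul_left_comm]) }
  have hθ : ∀ (u : Kˣ) (x : K × K), (θ u).1 x = ((u : K) * x.1, ((u⁻¹ : Kˣ) : K) * x.2) := fun u x => rfl
  have hinj : Function.Injective θ := fun a c h => by
    have := congrArg (fun g : oG R => (g.1 ((1 : K), (0 : K))).1) h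
    simpa [hθ, Units.ext_iff] using this
  have hsemi : Semi (θ ζ) := fun i z hz h => by
    rw [← map_pow] at h ⊢
    rw [hθ, Prod.ext_iff] at h
    suffices ζ ^ i = 1 by rw [this, map_one]
    by_cases h0 : z.1 = 0
    · exact inv_eq_one.1 (Units.ext ((mul_eq_right₀ (fun h' => hz (Prod.ext h0 h'))).1 h.2))
    · exact Units.ext ((mul_eq_right₀ h0).1 h.1)
  have := tor_of (R := R) (S := hyp (zeroForm F) d) (b := false) (t := θ ζ) hRn
    (nondeg_hyp nondeg_zeroForm d) h2 hd hfr
    (by simp only [Module.finrank_prod, Module.finrank_fin_fun]; omega) hsemi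
    (by rw [orderOf_injective θ hinj, hζ]; rfl)
    (fun _ => ⟨LinearMap.range (LinearMap.inl F K K), le_top, by rintro _ ⟨x, rfl⟩; simp [hR], by
      rw [LinearMap.finrank_range_of_inj LinearMap.inl_injective, finrank_top, hfr, FiniteField.finrank_extension]⟩)
    ⟨fun _ => rfl, fun _ => plus_hyp d⟩
  exact this

set_option maxHeartbeats 1000000 in
/-- An element of order `q ^ d + 1` of spinor norm minus one. -/
theorem exists_minus (p : ℕ) [Fact p.Prime] [CharP F p] (h2 : (2 : F) ≠ 0) {d : ℕ} (hd : 1 ≤ d)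
    {a b : F} (hab : ∀ z₁ z₂ : F, z₁ ^ 2 + a * z₁ * z₂ + b * z₂ ^ 2 = 0 → z₁ = 0 ∧ z₂ = 0) :
    El (hyp (binForm a b) (d - 1)) (Nat.card F ^ d + 1) (-1) := by
  classical
  set q := Nat.card F with hq
  have hq2 : 2 ≤ q := Finite.one_lt_card
  haveI : NeZero (2 * d) := ⟨by omega⟩
  let K := FiniteField.Extension F p (2 * d)
  haveI : Finite K := Module.finite_of_finite F
  haveI : Fintype K := Fintype.ofFinite K
  have hfr : finrank F K = 2 * d := FiniteField.finrank_extension F p (2 * d)
  have hKcard : Nat.card K = q ^ (2 * d) := by rw [FiniteField.natCard_extension]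
  set τ := FiniteField.frobeniusAlgEquivOfAlgebraic F K ^ d with hτ
  have hτa : ∀ x : K, τ x = x ^ q ^ d := fun x => by
    rw [hτ, AlgEquiv.coe_pow, FiniteField.coe_frobeniusAlgEquivOfAlgebraic_iterate, hq, Nat.card_eq_fintype_card]
  have hττ : ∀ x : K, τ (τ x) = x := fun x => by
    rw [hτa, hτa, ← pow_mul, ← pow_add, ← two_mul, ← hKcard, Nat.card_eq_fintype_card, FiniteField.pow_card]
  let R : QuadraticForm F K := LinearMap.BilinMap.toQuadraticMap
    (((LinearMap.mul F K).compl₂ τ.toLinearMap).compr₂ (Algebra.trace F K))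
  have hR : ∀ x : K, R x = Algebra.trace F K (x * τ x) := fun x => rfl
  have hpol : ∀ x y : K, polar R x y = 2 * Algebra.trace F K (x * τ y) := fun x y => by
    show R (x + y) - R x - R y = _
    have e : Algebra.trace F K (y * τ x) = Algebra.trace F K (x * τ y) := by
      rw [← Algebra.trace_eq_of_algEquiv τ (y * τ x), map_mul τ y, hττ, mul_comm (τ y) x]
    simp only [hR, map_add τ, add_mul, mul_add, map_add, e]
    ring
  have hRn : (polarBilin R).Nondegenerate := nondeg_of fun x hx => by
    refine (traceForm_nondegenerate F K).1 x fun y => ?_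
    have := hx (τ y)
    rw [hpol, hττ] at this
    exact (mul_eq_zero.1 this).resolve_left h2
  let N : Subgroup Kˣ :=
    { carrier := {u | (u : K) * τ u = 1}
      one_mem' := by simp
      mul_mem' := fun {u v} hu hv => by
        simp only [Set.mem_setOf_eq, Units.val_mul, map_mul] at *
        rw [mul_mul_mul_comm, hu, hv, one_mul]
      inv_mem' := fun {u} hu => by
        simp only [Set.mem_setOf_eq] at *
        have := congrArg (fun t : K => t⁻¹) hu
        simpa [mul_inv_rev, map_inv₀, mul_comm] using this }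
  obtain ⟨g, hg⟩ := IsCyclic.exists_ofOrder_eq_natCard (α := Kˣ)
  have hu : Nat.card Kˣ = (q ^ d + 1) * (q ^ d - 1) := by
    refine (Nat.card_units K).trans ?_
    rw [hKcard, sq_pow_sub_one]
  have hqd : 1 < q ^ d := Nat.one_lt_pow (by omega) hq2
  set u := g ^ (q ^ d - 1) with hudef
  have hord : orderOf u = q ^ d + 1 := by
    rw [hudef, orderOf_pow' _ (by omega), hg, hu, Nat.gcd_mul_left_left, Nat.mul_div_cancel _ (by omega)]
  have huN : u ∈ N := by
    show (u : K) * τ u = 1
    rw [hτa, ← pow_succ', ← Units.val_pow_eq_pow_val, ← hord, pow_orderOf_eq_one, Units.val_one]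
  let θ : N →* oG R :=
    { toFun := fun t => ⟨LinearEquiv.ofLinearMap (LinearMap.mulLeft F ((t : Kˣ) : K))
        (LinearMap.mulLeft F (((t : Kˣ)⁻¹ : Kˣ) : K))
        (LinearMap.ext fun x => by simp [← mul_assoc]) (LinearMap.ext fun x => by simp [← mul_assoc]),
        fun x => by
          show R (((t : Kˣ) : K) * x) = R x
          rw [hR, hR, map_mul τ, mul_mul_mul_comm ((t : Kˣ) : K) x, t.2, one_mul]⟩
      map_one' := Subtype.ext (LinearEquiv.ext fun x => by simp)
      map_mul' := fun a c => Subtype.ext (LinearEquiv.ext fun x => by simp [LinearEquiv.mul_apply, mul_assoc]) }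
  have hθ : ∀ (t : N) (x : K), (θ t).1 x = ((t : Kˣ) : K) * x := fun t x => rfl
  have hinj : Function.Injective θ := fun x y h => by
    have := congrArg (fun g : oG R => g.1 (1 : K)) h
    exact Subtype.ext (Units.ext (by simpa [hθ] using this))
  have hsemi : Semi (θ ⟨u, huN⟩) := fun i z hz h => by
    rw [← map_pow] at h ⊢
    rw [hθ] at h
    suffices (⟨u, huN⟩ : N) ^ i = 1 by rw [this, map_one]
    exact Subtype.ext (Units.ext ((mul_eq_right₀ hz).1 h))
  have := tor_of (R := R) (S := hyp (binForm a b) (d - 1)) (b := true) (t := θ ⟨u, huN⟩) hRn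
    (nondeg_hyp (nondeg_binForm hab) (d - 1)) h2 hd hfr
    (by simp only [Module.finrank_prod, Module.finrank_fin_fun, Module.finrank_self]; omega) hsemi
    (by rw [orderOf_injective θ hinj, Subgroup.orderOf_mk, hord]; rfl)
    (fun h => Bool.noConfusion h)
    ⟨fun h => absurd h (not_plus_hyp hab _), fun h => Bool.noConfusion h⟩
  exact this

end Cfsg.Agent.SpecNine
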