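import Cfsg.Agent.SpecNine.Bound

/-!
A single unipotent block in every odd dimension.
-/

set_option autoImplicit false

namespace Cfsg.Agent.SpecNine

open Module QuadraticMap Classical.Quad

universe u

variable {F : Type u} [Field F] [Finite F]

/-- An isometry with one unipotent block of odd length `m`. -/
theorem exists_block (p : ℕ) [Fact p.Prime] [CharP F p] (h2 : (2 : F) ≠ 0) {m : ℕ} (hm : Odd m) :
    ∃ (W : Type u) (_ : AddCommGroup W) (_ : Module F W) (_ : FiniteDimensional F W) (_ : Finite W)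
      (R : QuadraticForm F W) (g : oG R), (polarBilin R).Nondegenerate ∧ finrank F W = m ∧ dsign g = 1 ∧
      spin R g = 1 ∧ (∀ j, m ≤ p ^ j → g ^ p ^ j = 1) ∧
      ∀ k, k < m → ∃ x, ((en R g - 1) ^ k) x ≠ 0 := by
  classical
  have hp := (Fact.out : p.Prime)
  set P : Polynomial F := (Polynomial.X - 1) ^ m with hP
  have hmon : P.Monic := by
    rw [hP, ← Polynomial.C_1]
    exact (Polynomial.monic_X_sub_C 1).pow m
  have hdeg : P.natDegree = m := by
    rw [hP, ← Polynomial.C_1, Polynomial.natDegree_pow, Polynomial.natDegree_X_sub_C, mul_one]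
  let pb := AdjoinRoot.powerBasis hmon.ne_zero
  haveI : FiniteDimensional F (AdjoinRoot P) := pb.finite
  haveI : Finite (AdjoinRoot P) := Module.finite_of_finite F
  set t : AdjoinRoot P := AdjoinRoot.root P with ht
  have hη : (t - 1) ^ m = 0 := by
    have h := AdjoinRoot.mk_self (f := P)
    rw [hP, map_pow, map_sub, AdjoinRoot.mk_X, map_one] at h
    exact h
  obtain ⟨s, hs⟩ : IsUnit t := by
    have h := (IsNilpotent.isUnit_one_add (⟨m, hη⟩ : IsNilpotent (t - 1)))
    rwa [add_sub_cancel] at h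
  set t' : AdjoinRoot P := ((s⁻¹ : (AdjoinRoot P)ˣ) : AdjoinRoot P) with ht'
  have htt : t * t' = 1 := by rw [ht', ← hs, Units.mul_inv]
  have ht1 : t' - 1 = -(t' * (t - 1)) := by rw [mul_sub, mul_comm t' t, htt, mul_one, neg_sub]
  have hη' : (t' - 1) ^ m = 0 := by rw [ht1, neg_pow, mul_pow, hη, mul_zero, mul_zero]
  let ι : AdjoinRoot P →ₐ[F] AdjoinRoot P := AdjoinRoot.liftAlgHom P (Algebra.ofId F _) t' (by
    have h : Polynomial.aeval t' ((Polynomial.X - 1 : Polynomial F) ^ m) = 0 := by simpa using hη'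
    exact h)
  have hιt : ι t = t' := AdjoinRoot.liftAlgHom_root _ _ _ _
  have hιt' : ι t' = t := by
    have h : t' * ι t' = 1 := by
      have h' := congrArg ι htt
      rwa [map_mul, map_one, hιt] at h'
    calc ι t' = t * t' * ι t' := by rw [htt, one_mul]
      _ = t := by rw [mul_assoc, h, mul_one]
  have hιι : ∀ f, ι (ι f) = f := fun f => by
    have : ι.comp ι = AlgHom.id F _ := AdjoinRoot.algHom_ext (by
      rw [AlgHom.comp_apply, ← ht, hιt, hιt']; rfl)
    exact DFunLike.congr_fun this f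
  have hm1 : 1 ≤ m := hm.pos
  have htop : (t - 1) ^ (m - 1) ≠ 0 := by
    intro h
    rw [show (t - 1) ^ (m - 1) = AdjoinRoot.mk P ((Polynomial.X - 1) ^ (m - 1)) by
      rw [map_pow, map_sub, AdjoinRoot.mk_X, map_one], AdjoinRoot.mk_eq_zero] at h
    have h' := Polynomial.natDegree_le_of_dvd h (pow_ne_zero _ (Polynomial.X_sub_C_ne_zero (1 : F)))
    rw [hdeg, ← Polynomial.C_1, Polynomial.natDegree_pow, Polynomial.natDegree_X_sub_C, mul_one] at h'
    omega
  obtain ⟨φ₀, hφ₀⟩ : ∃ φ₀ : Dual F (AdjoinRoot P), φ₀ ((t - 1) ^ (m - 1)) ≠ 0 := by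
    by_contra h
    push Not at h
    exact htop ((Module.forall_dual_apply_eq_zero_iff F _).1 h)
  let φ : Dual F (AdjoinRoot P) := φ₀ + φ₀.comp ι.toLinearMap
  have hφι : ∀ f, φ (ι f) = φ f := fun f => by
    show φ₀ (ι f) + φ₀ (ι (ι f)) = φ₀ f + φ₀ (ι f)
    rw [hιι, add_comm]
  have hfix : ∀ k, t' ^ k * (t - 1) ^ (m - 1) = (t - 1) ^ (m - 1) := fun k => by
    have h1 : t' * (t - 1) ^ (m - 1) = (t - 1) ^ (m - 1) := by
      have : t * (t - 1) ^ (m - 1) = (t - 1) ^ (m - 1) := by
        have e : (t - 1) * (t - 1) ^ (m - 1) = 0 := by rw [← pow_succ', Nat.sub_add_cancel hm1, hη]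
        linear_combination e
      calc t' * (t - 1) ^ (m - 1) = t' * (t * (t - 1) ^ (m - 1)) := by rw [this]
        _ = _ := by rw [← mul_assoc, mul_comm t' t, htt, one_mul]
    induction k with
    | zero => rw [pow_zero, one_mul]
    | succ k ih => rw [pow_succ, mul_assoc, h1, ih]
  have hφtop : φ ((t - 1) ^ (m - 1)) ≠ 0 := by
    have he : Even (m - 1) := by obtain ⟨k, hk⟩ := hm; exact ⟨k, by omega⟩
    have : ι ((t - 1) ^ (m - 1)) = (t - 1) ^ (m - 1) := by
      rw [map_pow, map_sub, hιt, map_one, ht1, neg_pow, mul_pow, hfix, he.neg_one_pow, one_mul]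
    show φ₀ ((t - 1) ^ (m - 1)) + φ₀ (ι ((t - 1) ^ (m - 1))) ≠ 0
    rw [this, ← two_mul]
    exact mul_ne_zero h2 hφ₀
  let β : LinearMap.BilinForm F (AdjoinRoot P) := ((LinearMap.mul F (AdjoinRoot P)).compl₂ ι.toLinearMap).compr₂ φ
  let R : QuadraticForm F (AdjoinRoot P) := LinearMap.BilinMap.toQuadraticMap β
  have hR : ∀ f, R f = φ (f * ι f) := fun f => rfl
  have hpol : ∀ f g, polar R f g = 2 * φ (f * ι g) := fun f g => by
    have e : φ (g * ι f) = φ (f * ι g) := by
      rw [← hφι (g * ι f), map_mul ι, hιι, mul_comm]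
    simp only [polar, hR, map_add, add_mul, mul_add, e]
    ring
  have hRn : (polarBilin R).Nondegenerate := nondeg_of fun f hf => by
    by_contra h0
    obtain ⟨Pf, rfl⟩ := AdjoinRoot.mk_surjective f
    have hPf : Pf ≠ 0 := fun h => h0 (by rw [h, map_zero])
    obtain ⟨Qf, hQf, hQ1⟩ := Polynomial.exists_eq_pow_rootMultiplicity_mul_and_not_dvd Pf hPf (1 : F)
    set i := Pf.rootMultiplicity 1
    rw [Polynomial.C_1] at hQf hQ1
    have him : i < m := by
      by_contra h
      refine h0 (AdjoinRoot.mk_eq_zero.2 ?_)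
      rw [hQf, hP]
      exact (pow_dvd_pow _ (by omega)).mul_right _
    have hev : Qf.eval 1 ≠ 0 := fun h => hQ1 (by
      rw [← Polynomial.C_1]; exact Polynomial.dvd_iff_isRoot.2 h)
    have hkey : AdjoinRoot.mk P Pf * (t - 1) ^ (m - 1 - i) = Qf.eval 1 • (t - 1) ^ (m - 1) := by
      obtain ⟨Q', hQ'⟩ : Polynomial.X - Polynomial.C 1 ∣ Qf - Polynomial.C (Qf.eval 1) :=
        Polynomial.dvd_iff_isRoot.2 (by simp)
      rw [Algebra.smul_def, show (t - 1) = AdjoinRoot.mk P (Polynomial.X - 1) by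
        rw [map_sub, AdjoinRoot.mk_X, map_one], ← map_pow, ← map_pow, ← map_mul, AdjoinRoot.algebraMap_eq,
        ← AdjoinRoot.mk_C (f := P), ← map_mul, AdjoinRoot.mk_eq_mk]
      refine ⟨Q', ?_⟩
      rw [Polynomial.C_1] at hQ'
      conv_lhs => rw [hQf]
      rw [hP, show m - 1 = i + (m - 1 - i) by omega, pow_add]
      conv_rhs => rw [show m = (m - 1 - i) + i + 1 by omega, pow_succ, pow_add]
      rw [show i + (m - 1 - i) - i = m - 1 - i by omega]
      linear_combination ((Polynomial.X - 1) ^ i * (Polynomial.X - 1) ^ (m - 1 - i)) * hQ'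
    have h' := hf (ι ((t - 1) ^ (m - 1 - i)))
    rw [hpol, hιι, hkey, map_smul, smul_eq_mul] at h'
    exact mul_ne_zero h2 (mul_ne_zero hev hφtop) h'
  let g : oG R := ⟨LinearEquiv.ofLinearMap (LinearMap.mulLeft F t) (LinearMap.mulLeft F t')
    (LinearMap.ext fun x => by simp [← mul_assoc, htt]) (LinearMap.ext fun x => by simp [← mul_assoc, mul_comm t' t, htt]),
    fun x => by
      show R (t * x) = R x
      rw [hR, hR, map_mul ι, hιt, mul_mul_mul_comm, htt, one_mul]⟩
  have hg : ∀ x, g.1 x = t * x := fun x => rfl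
  have hpow : ∀ k x, ((en R g - 1) ^ k) x = (t - 1) ^ k * x := fun k => by
    induction k with
    | zero => intro x; simp
    | succ k ih =>
      intro x
      rw [pow_succ', Module.End.mul_apply, ih, LinearMap.sub_apply, Module.End.one_apply, en_apply, hg, pow_succ']
      ring
  have hord : ∀ j, m ≤ p ^ j → g ^ p ^ j = 1 := fun j hj => en_injective (by
    rw [map_pow, map_one, ← sub_eq_zero, ← pow_sub_one p]
    refine LinearMap.ext fun x => ?_
    rw [hpow, pow_eq_zero_of_le hj hη, zero_mul]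
    rfl)
  have hpm : m ≤ p ^ m := (Nat.lt_pow_self hp.one_lt).le
  have hodd : Odd (p ^ m) := (hp.odd_of_ne_two fun h => h2 (by subst h; exact CharTwo.two_eq_zero)).pow
  refine ⟨AdjoinRoot P, inferInstance, inferInstance, inferInstance, inferInstance, R, g, hRn,
    by rw [pb.finrank, AdjoinRoot.powerBasis_dim, hdeg],
    sign_hom_eq_one (dickson hRn (hex_of_two h2 _)) hodd (hord m hpm), sign_hom_eq_one (spin R) hodd (hord m hpm),
    hord, fun k hk => ⟨1, fun h => htop ?_⟩⟩
  rw [hpow, mul_one] at h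
  exact pow_eq_zero_of_le (by omega) h

end Cfsg.Agent.SpecNine
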