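import Cfsg.Agent.SpecNine.Torus
import Cfsg.Agent.SpecNine.Unip

/-!
Every listed number is an element order in dimension nine, and in the extension of the natural module of minus
type in dimension eight.
-/

set_option autoImplicit false

namespace Cfsg.Agent.SpecNine

open Module QuadraticMap Classical.Quad Cfsg.Agent.FormOrder
open SpecSpEight (prodO prodO_injective plus_minus minus_plus oCongr_apply')

universe u v w

variable {F : Type u} [Field F] [Finite F]

/-- An element of the extension of the natural module whose order is a multiple of `N`. -/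
def WitB {V : Type v} [AddCommGroup V] [Module F V] [FiniteDimensional F V] [Finite V] (Q : QuadraticForm F V)
    (N : ℕ) : Prop :=
  ∃ (g : oG Q) (v : V), dsign g = 1 ∧ spin Q g = 1 ∧
    ∀ n, g ^ n = 1 → ∑ i ∈ Finset.range n, (g ^ i).1 v = 0 → N ∣ n

section Spaces

variable {V : Type v} [AddCommGroup V] [Module F V] [FiniteDimensional F V] [Finite V] {R : QuadraticForm F V}

omit [Finite F] [FiniteDimensional F V] [Finite V] in
theorem nondeg_smul (hR : (polarBilin R).Nondegenerate) {c : F} (hc : c ≠ 0) :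
    (polarBilin (c • R)).Nondegenerate := nondeg_of fun x hx => eq_zero_of_polar hR fun y => by
  have := hx y
  rw [show ⇑(c • R) = c • ⇑R from rfl, QuadraticMap.polar_smul, smul_eq_mul] at this
  exact (mul_eq_zero.1 this).resolve_left hc

theorem El.smul (hR : (polarBilin R).Nondegenerate) (h2 : (2 : F) ≠ 0) {c : F} (hc : c ≠ 0) {M : ℕ}
    (h : El (c • R) M 1) : El R M 1 := by
  obtain ⟨g, hg, hd, hs⟩ := h
  let ψ : oG (c • R) →* oG R :=
    { toFun := fun g => ⟨g.1, fun x => mul_left_cancel₀ hc (by simpa using g.2 x)⟩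
      map_one' := rfl
      map_mul' := fun _ _ => rfl }
  have hψ : Function.Injective ψ := fun a b h' => Subtype.ext (congrArg (fun f : oG R => f.1) h')
  refine ⟨ψ g, by rw [orderOf_injective ψ hψ, hg], hd, ?_⟩
  have hmem : g ∈ commutator (oG (c • R)) :=
    (mem_commutator_chars (nondeg_smul hR hc) (hex_of_two h2 _) g).2 ⟨hd, fun _ => hs⟩
  exact Abelianization.commutator_subset_ker ((spin R).comp ψ) hmem

theorem El.half {M : ℕ} {s : ℤˣ} (hR : (polarBilin R).Nondegenerate) (h2 : (2 : F) ≠ 0) (hM : 2 ∣ M)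
    (h : El R M s) : El R (M / 2) 1 := by
  obtain ⟨g, hg, hd, hs⟩ := h
  refine ⟨g ^ 2, by rw [orderOf_pow' _ two_ne_zero, hg, Nat.gcd_eq_right hM], ?_, ?_⟩
  · show dickson hR (hex_of_two h2 _) (g ^ 2) = 1
    rw [map_pow, show dickson hR (hex_of_two h2 _) g = 1 from hd, one_pow]
  · rw [map_pow, hs]
    exact Int.units_sq s

omit [Finite F] [FiniteDimensional F V] [Finite V] in
theorem iso_smul_hyp {U : Type w} [AddCommGroup U] [Module F U] (S : QuadraticForm F U) {c : F} (hc : c ≠ 0)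
    (m : ℕ) : Iso (hyp (c • S) m) (c • hyp S m) := by
  refine ⟨{ toFun := fun x => ((c⁻¹ • x.1.1, x.1.2), x.2)
            invFun := fun x => ((c • x.1.1, x.1.2), x.2)
            map_add' := fun x y => by simp [smul_add]
            map_smul' := fun a x => Prod.ext (Prod.ext (smul_comm c⁻¹ a x.1.1) rfl) rfl
            left_inv := fun x => by simp [smul_smul, hc]
            right_inv := fun x => by simp [smul_smul, hc] }, fun x => ?_⟩
  simp [hyp_apply, mul_add, Finset.mul_sum, ← mul_assoc, hc]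

theorem to_nine (h2 : (2 : F) ≠ 0) (hR : (polarBilin R).Nondegenerate) (hV : finrank F V = 9) {M : ℕ}
    (h : El R M 1) : El (hyp (sqForm F) 4) M 1 := by
  obtain ⟨c, hc, -, hiso⟩ := odd_case hR (m := 4) (by omega)
  haveI : Finite (((Fin 4 → F) × (Fin 4 → F)) × F) := inferInstance
  have hS := nondeg_hyp (nondeg_sqForm h2) 4
  exact El.smul hS h2 hc (El.congr hR h2 (hiso.symm.trans (iso_smul_hyp _ hc 4)) h)

omit [Finite V] in
/-- A seven-dimensional space completes to the eight-dimensional space of minus type. -/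
theorem complete (hR : (polarBilin R).Nondegenerate) (hV : finrank F V = 7) {a b : F}
    (hab : ∀ z₁ z₂ : F, z₁ ^ 2 + a * z₁ * z₂ + b * z₂ ^ 2 = 0 → z₁ = 0 ∧ z₂ = 0) :
    ∃ d : F, d ≠ 0 ∧ Iso (R.prod (d • sqForm F)) (hyp (binForm a b) 3) := by
  haveI := Fintype.ofFinite F
  obtain ⟨c, hc, h2, hiso⟩ := odd_case hR (m := 3) (by omega)
  obtain ⟨⟨s, t⟩, hz⟩ := binForm_surjective hab c
  set z : F × F := (s, t)
  set w : F × F := (-(a * s + 2 * b * t), 2 * s + a * t) with hw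
  have hzw : polar (binForm a b) z w = 0 := by rw [polar_binForm]; simp [z, w]; ring
  have hw0 : w ≠ 0 := fun h => by
    have h1 : a * s + 2 * b * t = 0 := neg_eq_zero.1 (congrArg Prod.fst h)
    have h2' : 2 * s + a * t = 0 := congrArg Prod.snd h
    refine hc ?_
    have hz0 : z = 0 := eq_zero_of_polar (nondeg_binForm hab) fun y => by
      rw [polar_binForm]
      simp only [z]
      linear_combination y.1 * h2' + y.2 * h1
    rw [← hz, hz0, QuadraticMap.map_zero]
  let f : F × F →ₗ[F] F × F := ((LinearMap.fst F F F).smulRight z) + (LinearMap.snd F F F).smulRight w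
  have hf : ∀ x, f x = x.1 • z + x.2 • w := fun x => rfl
  have hinj : Function.Injective f := (injective_iff_map_eq_zero f).2 fun x hx => by
    rw [hf] at hx
    have h := congrArg (fun y => polar (binForm a b) z y) hx
    simp only [polar_add_right, polar_smul_right, hzw, smul_zero, add_zero, polar_zero_right, smul_eq_mul,
      mul_zero, polar_self', hz] at h
    have h0 : x.1 = 0 := (mul_eq_zero.1 h).resolve_right (mul_ne_zero h2 hc)
    rw [h0, zero_smul, zero_add] at hx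
    exact Prod.ext h0 ((smul_eq_zero.1 hx).resolve_right hw0)
  set d := binForm a b w with hd
  have hbin : Iso ((c • sqForm F).prod (d • sqForm F)) (binForm a b) := by
    refine ⟨LinearEquiv.ofInjectiveEndo f hinj, fun x => ?_⟩
    show binForm a b (f x) = _
    rw [hf, map_add', map_smul', map_smul', polar_smul_left, polar_smul_right, hzw, hz, smul_zero, smul_zero,
      add_zero]
    simp [sqForm, hd]
    ring
  refine ⟨d, binForm_ne_zero hab hw0, (SpecSpEight.iso_prod hiso.symm ⟨LinearEquiv.refl F F, fun _ => rfl⟩).trans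
    (Iso.trans ?_ (iso_hyp hbin 3))⟩
  refine ⟨{ toFun := fun x => (x.1.1, (x.1.2, x.2))
            invFun := fun x => ((x.1, x.2.1), x.2.2)
            map_add' := fun _ _ => rfl
            map_smul' := fun _ _ => rfl
            left_inv := fun _ => rfl
            right_inv := fun _ => rfl }, fun x => ?_⟩
  simp [hyp_apply, add_assoc]

end Spaces

theorem not_dvd_val (p : ℕ) [Fact p.Prime] {q : ℕ} (hq : p ∣ q) {d : ℕ} (hd : 1 ≤ d) (hq0 : 1 ≤ q) :
    ¬ p ∣ q ^ d + 1 ∧ ¬ p ∣ q ^ d - 1 := by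
  have hp := (Fact.out : p.Prime)
  have h := hq.trans (dvd_pow_self q (show d ≠ 0 by omega))
  refine ⟨fun h' => hp.ne_one (Nat.dvd_one.1 ((Nat.dvd_add_right h).1 h')), fun h' => ?_⟩
  have h1 : 1 ≤ q ^ d := Nat.one_le_pow _ _ hq0
  have := Nat.dvd_sub h h'
  rw [show q ^ d - (q ^ d - 1) = 1 by omega] at this
  exact hp.ne_one (Nat.dvd_one.1 this)

theorem lcm_half {A B : ℕ} (hA : 2 ∣ A) (hB : 2 ∣ B) (h : Nat.gcd A B ∣ 2) : Nat.lcm A B = A * B / 2 := by
  rw [Nat.lcm, Nat.dvd_antisymm h (Nat.dvd_gcd hA hB)]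

section Main

variable (p : ℕ) [Fact p.Prime] [CharP F p]

/-- A semisimple element with a unipotent block. -/
theorem ext_wit (h2 : (2 : F) ≠ 0) {a b : F}
    (hab : ∀ z₁ z₂ : F, z₁ ^ 2 + a * z₁ * z₂ + b * z₂ ^ 2 = 0 → z₁ = 0 ∧ z₂ = 0)
    {T : Type u} [AddCommGroup T] [Module F T] [FiniteDimensional F T] [Finite T] {RT : QuadraticForm F T}
    (hT : (polarBilin RT).Nondegenerate) {M i : ℕ} (hM : ¬ p ∣ M) (hdim : finrank F T + p ^ i = 7)
    (ht : El RT M 1) :
    El (hyp (sqForm F) 4) (p ^ (i + 1) * M) 1 ∧ WitB (hyp (binForm a b) 3) (p ^ (i + 1) * M) := by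
  have hp := (Fact.out : p.Prime)
  have hpodd : Odd p := hp.odd_of_ne_two fun h => h2 (by subst h; exact CharTwo.two_eq_zero)
  have hp3 : 3 ≤ p := by have := hp.two_le; have := Nat.odd_iff.1 hpodd; omega
  have hi : 1 ≤ p ^ i := Nat.one_le_pow _ _ hp.pos
  have hcop : Nat.Coprime (p ^ (i + 1)) M := (hp.coprime_iff_not_dvd.2 hM).pow_left _
  have hodd2 : Odd (p ^ i + 2) := by rw [Nat.odd_add]; simp [hpodd.pow]
  constructor
  · obtain ⟨W, i1, i2, i3, i4, R, u, hR, hWd, hud, hus, huj, hux⟩ := exists_block p h2 hodd2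
    have hle : p ^ i + 2 ≤ p ^ (i + 1) := by
      rw [pow_succ]
      have := Nat.mul_le_mul_left (p ^ i) hp3
      omega
    have hu : El R (p ^ (i + 1)) 1 := by
      refine ⟨u, orderOf_eq_prime_pow (fun h => ?_) (huj _ hle), hud, hus⟩
      obtain ⟨x, hx⟩ := hux (p ^ i) (by omega)
      rw [pow_sub_one p, ← map_pow, h, map_one, sub_self] at hx
      exact hx rfl
    have h := El.prod hT hR h2 ht hu
    rw [one_mul, Nat.Coprime.lcm_eq_mul hcop.symm, mul_comm M] at h
    exact to_nine h2 (nondeg_prod hT hR) (by rw [Module.finrank_prod, hWd]; omega) h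
  · obtain ⟨W, i1, i2, i3, i4, R, u, hR, hWd, hud, hus, huj, hux⟩ := exists_block p h2 (hpodd.pow (n := i))
    obtain ⟨t, hto, htd, hts⟩ := ht
    obtain ⟨x, hx⟩ := hux (p ^ i - 1) (by omega)
    have hR7 := nondeg_prod hT hR
    obtain ⟨d, hd, hiso⟩ := complete hR7 (by rw [Module.finrank_prod, hWd]; omega) hab
    obtain ⟨e, he⟩ := hiso
    have hL : (polarBilin (d • sqForm F)).Nondegenerate := nondeg_smul (nondeg_sqForm h2) hd
    obtain ⟨c1, c2⟩ := chars_prod hT hR h2 t u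
    obtain ⟨c3, c4⟩ := chars_prod hR7 hL h2 (prodO RT R (t, u)) 1
    obtain ⟨c5, c6⟩ := chars_congr (nondeg_prod hR7 hL) h2 e he (prodO (RT.prod R) (d • sqForm F) (prodO RT R (t, u), 1))
    refine ⟨oCongr e he (prodO (RT.prod R) (d • sqForm F) (prodO RT R (t, u), 1)), e ((0, x), 0), ?_, ?_,
      fun n hn hsum => ?_⟩
    · rw [c5, c3, c1, htd, hud, dsign_one, mul_one, mul_one]
    · rw [c6, c4, c2, hts, hus, map_one, mul_one, mul_one]
    rw [← map_pow, MulEquiv.map_eq_one_iff, ← map_pow,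
      (injective_iff_map_eq_one' _).1 (prodO_injective _ _), Prod.pow_mk, Prod.mk_eq_one, ← map_pow,
      (injective_iff_map_eq_one' _).1 (prodO_injective _ _), Prod.pow_mk, Prod.mk_eq_one] at hn
    obtain ⟨⟨htn, hun⟩, -⟩ := hn
    have hsum' : (∑ j ∈ Finset.range n, en R u ^ j) x = 0 := by
      have hterm : ∀ j, ((oCongr e he (prodO (RT.prod R) (d • sqForm F) (prodO RT R (t, u), 1))) ^ j).1
          (e ((0, x), 0)) = e ((0, (en R u ^ j) x), 0) := fun j => by
        rw [← map_pow, ← map_pow, Prod.pow_mk, ← map_pow, oCongr_apply' e he]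
        show e ((((t, u) ^ j).1.1 0, ((t, u) ^ j).2.1 x), ((1 : oG (d • sqForm F)) ^ j).1 0) = _
        simp [en_pow]
      simp only [hterm, ← map_sum, LinearEquiv.map_eq_zero_iff] at hsum
      have := congrArg (fun z : (T × W) × F => z.1.2) hsum
      simpa [LinearMap.sum_apply, Prod.fst_sum, Prod.snd_sum] using this
    have hpn : p ^ (i + 1) ∣ n := by
      by_contra hnd
      rcases Nat.eq_zero_or_pos n with rfl | hn0
      · exact hnd (dvd_zero _)
      obtain ⟨a', n', hn', rfl⟩ := Nat.exists_eq_pow_mul_and_not_dvd hn0.ne' p hp.ne_one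
      have ha : a' ≤ i := by
        by_contra h
        exact hnd ((pow_dvd_pow p (show i + 1 ≤ a' by omega)).mul_right n')
      have e1 : p ^ i * n' = p ^ a' * n' * p ^ (i - a') := by
        rw [mul_right_comm, ← pow_add, Nat.add_sub_cancel' ha]
      have hz : (∑ j ∈ Finset.range (p ^ i * n'), en R u ^ j) x = 0 := by
        rw [e1, sum_periodic _ (by rw [← map_pow, hun, map_one]), LinearMap.smul_apply, hsum', smul_zero]
      rw [sum_periodic _ (by rw [← map_pow, huj i le_rfl, map_one]), geom_eq p, LinearMap.smul_apply,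
        ← Nat.cast_smul_eq_nsmul F, smul_eq_zero] at hz
      exact hz.elim (fun h => hn' ((CharP.cast_eq_zero_iff F p n').1 h)) hx
    exact hcop.mul_dvd_of_dvd_of_dvd hpn (hto ▸ orderOf_dvd_of_pow_eq_one htn)

/-- A semisimple element in both spaces. -/
theorem ss_wit (h2 : (2 : F) ≠ 0) {a b : F}
    (hab : ∀ z₁ z₂ : F, z₁ ^ 2 + a * z₁ * z₂ + b * z₂ ^ 2 = 0 → z₁ = 0 ∧ z₂ = 0) {M : ℕ}
    (ht : El (hyp (binForm a b) 3) M 1) :
    El (hyp (sqForm F) 4) (p ^ 0 * M) 1 ∧ WitB (hyp (binForm a b) 3) (p ^ 0 * M) := by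
  have hQ := nondeg_hyp (nondeg_binForm hab) 3
  have hL := nondeg_sqForm (F := F) h2
  rw [pow_zero, one_mul]
  refine ⟨?_, ?_⟩
  · have h := El.prod hQ hL h2 ht (El.one (sqForm F))
    rw [one_mul, Nat.lcm_one_right] at h
    exact to_nine h2 (nondeg_prod hQ hL)
      (by simp only [Module.finrank_prod, Module.finrank_fin_fun, Module.finrank_self]) h
  · obtain ⟨g, hg, hd, hs⟩ := ht
    exact ⟨g, 0, hd, hs, fun n hn _ => hg ▸ orderOf_dvd_of_pow_eq_one hn⟩

/-- Every listed number is attained in both groups. -/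
theorem exists_wit [Fintype F] (h2 : (2 : F) ≠ 0) {a b : F}
    (hab : ∀ z₁ z₂ : F, z₁ ^ 2 + a * z₁ * z₂ + b * z₂ ^ 2 = 0 → z₁ = 0 ∧ z₂ = 0) {P : ℕ × ℕ}
    (hP : P ∈ L (Nat.card F) p) :
    El (hyp (sqForm F) 4) (p ^ P.1 * P.2) 1 ∧ WitB (hyp (binForm a b) 3) (p ^ P.1 * P.2) := by
  set q := Nat.card F with hq
  have hq1 : 1 ≤ q := Nat.card_pos
  have hpq : p ∣ q := by
    obtain ⟨f, -, hf⟩ := FiniteField.card F p
    rw [hq, Nat.card_eq_fintype_card, hf]
    exact dvd_pow_self p f.ne_zero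
  obtain ⟨e1, e2, ev⟩ := even_parts (odd_card (F := F) h2)
  obtain ⟨hsq, hc3, hd3⟩ := dvd_halves (odd_card (F := F) h2)
  rw [← hq] at e1 e2 ev hsq hc3 hd3
  have nd : ∀ d, 1 ≤ d → ¬ p ∣ q ^ d + 1 ∧ ¬ p ∣ q ^ d - 1 := fun d hd => not_dvd_val p hpq hd hq1
  have nd1 : ¬ p ∣ q + 1 ∧ ¬ p ∣ q - 1 := by simpa using nd 1 le_rfl
  have ndh : ∀ {A : ℕ}, 2 ∣ A → ¬ p ∣ A → ¬ p ∣ A / 2 := fun hA h h' => h (h'.trans (Nat.div_dvd_of_dvd hA))
  have ndl : ∀ {A B : ℕ}, ¬ p ∣ A → ¬ p ∣ B → ¬ p ∣ Nat.lcm A B := fun hA hB h =>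
    ((Fact.out : p.Prime).dvd_mul.1 (h.trans (Nat.lcm_dvd_mul _ _))).elim hA hB
  have hn0 := nondeg_zeroForm (F := F)
  have hnb := nondeg_binForm hab
  have P1 : El (hyp (zeroForm F) 1) (q - 1) (-1) := by
    have h := exists_plus (F := F) p h2 (d := 1) le_rfl
    rwa [pow_one] at h
  have P2 : El (hyp (zeroForm F) 2) (q ^ 2 - 1) (-1) := exists_plus (F := F) p h2 (by norm_num)
  have P3 : El (hyp (zeroForm F) 3) (q ^ 3 - 1) (-1) := exists_plus (F := F) p h2 (by norm_num)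
  have M1 : El (hyp (binForm a b) 0) (q + 1) (-1) := by
    have h := exists_minus (F := F) p h2 (d := 1) le_rfl hab
    rwa [pow_one] at h
  have M2 : El (hyp (binForm a b) 1) (q ^ 2 + 1) (-1) := exists_minus (F := F) p h2 (d := 2) (by norm_num) hab
  have M3 : El (hyp (binForm a b) 2) (q ^ 3 + 1) (-1) := exists_minus (F := F) p h2 (d := 3) (by norm_num) hab
  have M4 : El (hyp (binForm a b) 3) (q ^ 4 + 1) (-1) := exists_minus (F := F) p h2 (d := 4) (by norm_num) hab
  have g2 : ∀ {A B : ℕ}, A + 2 = B → ∀ {g : ℕ}, g ∣ A → g ∣ B → g ∣ 2 := fun h g hA hB =>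
    (Nat.dvd_add_right hA).1 (h ▸ hB)
  have hq2 : 1 ≤ q ^ 2 := Nat.one_le_pow _ _ hq1
  have hq3 : 1 ≤ q ^ 3 := Nat.one_le_pow _ _ hq1
  simp only [L, List.mem_append, List.mem_cons, List.not_mem_nil, or_false, List.mem_ite_nil_right] at hP
  rcases hP with (rfl | rfl | rfl | rfl | rfl | rfl | rfl | rfl | rfl) | hP
  · refine ss_wit p h2 hab ?_
    have h := El.congr (nondeg_prod (nondeg_hyp hn0 2) (nondeg_hyp hnb 1)) h2 (plus_minus 2 1 _)
      (El.prod (nondeg_hyp hn0 2) (nondeg_hyp hnb 1) h2 P2 M2)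
    rwa [neg_mul_neg, one_mul, lcm_half (ev 2).2 (ev 2).1
      (g2 (show q ^ 2 - 1 + 2 = q ^ 2 + 1 by omega) (Nat.gcd_dvd_left _ _) (Nat.gcd_dvd_right _ _)),
      mul_comm (q ^ 2 - 1)] at h
  · exact ss_wit p h2 hab (M4.half (nondeg_hyp hnb 3) h2 (ev 4).1)
  · refine ss_wit p h2 hab ?_
    have h := El.congr (nondeg_prod (nondeg_hyp hnb 2) (nondeg_hyp hn0 1)) h2 (minus_plus 1 2 _)
      (El.prod (nondeg_hyp hnb 2) (nondeg_hyp hn0 1) h2 M3 P1)
    rwa [neg_mul_neg, one_mul, lcm_half (ev 3).1 e2 (g2 (show q ^ 3 - 1 + 2 = q ^ 3 + 1 by omega)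
      ((Nat.gcd_dvd_right _ _).trans hd3) (Nat.gcd_dvd_left _ _))] at h
  · refine ss_wit p h2 hab ?_
    have h := El.congr (nondeg_prod (nondeg_hyp hn0 3) (nondeg_hyp hnb 0)) h2 (plus_minus 3 0 _)
      (El.prod (nondeg_hyp hn0 3) (nondeg_hyp hnb 0) h2 P3 M1)
    rwa [neg_mul_neg, one_mul, lcm_half (ev 3).2 e1 (g2 (show q ^ 3 - 1 + 2 = q ^ 3 + 1 by omega)
      (Nat.gcd_dvd_left _ _) ((Nat.gcd_dvd_right _ _).trans hc3))] at h
  · exact ext_wit p h2 hab (nondeg_hyp hnb 2) (i := 0) (ndh (ev 3).1 (nd 3 (by norm_num)).1)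
      (by simp) (M3.half (nondeg_hyp hnb 2) h2 (ev 3).1)
  · exact ext_wit p h2 hab (nondeg_hyp hn0 3) (i := 0) (ndh (ev 3).2 (nd 3 (by norm_num)).2)
      (by simp) (P3.half (nondeg_hyp hn0 3) h2 (ev 3).2)
  · have h := El.prod (nondeg_hyp hnb 1) (nondeg_hyp hnb 0) h2 M2 M1
    have e : Nat.lcm (q ^ 2 + 1) (q + 1) = (q ^ 2 + 1) * (q + 1) / 2 :=
      lcm_half (ev 2).1 e1 (g2 (show q ^ 2 - 1 + 2 = q ^ 2 + 1 by omega)
        ((Nat.gcd_dvd_right _ _).trans (hsq true).1) (Nat.gcd_dvd_left _ _))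
    rw [neg_mul_neg, one_mul, e] at h
    exact ext_wit p h2 hab (nondeg_prod (nondeg_hyp hnb 1) (nondeg_hyp hnb 0)) (i := 0)
      (e ▸ ndl (nd 2 (by norm_num)).1 nd1.1) (by simp) h
  · have h := El.prod (nondeg_hyp hnb 1) (nondeg_hyp hn0 1) h2 M2 P1
    have e : Nat.lcm (q ^ 2 + 1) (q - 1) = (q ^ 2 + 1) * (q - 1) / 2 :=
      lcm_half (ev 2).1 e2 (g2 (show q ^ 2 - 1 + 2 = q ^ 2 + 1 by omega)
        ((Nat.gcd_dvd_right _ _).trans (hsq true).2.1) (Nat.gcd_dvd_left _ _))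
    rw [neg_mul_neg, one_mul, e] at h
    exact ext_wit p h2 hab (nondeg_prod (nondeg_hyp hnb 1) (nondeg_hyp hn0 1)) (i := 0)
      (e ▸ ndl (nd 2 (by norm_num)).1 nd1.2) (by simp) h
  · have h := El.prod (nondeg_hyp hn0 2) (nondeg_hyp hnb 0) h2 P2 M1
    rw [neg_mul_neg, one_mul, Nat.lcm_eq_left (hsq true).1] at h
    exact ext_wit p h2 hab (nondeg_prod (nondeg_hyp hn0 2) (nondeg_hyp hnb 0)) (i := 0)
      (nd 2 (by norm_num)).2 (by simp) h
  · split_ifs at hP with hp3 hp5 hp7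
    · subst hp3
      simp only [List.mem_cons, List.not_mem_nil, or_false] at hP
      rcases hP with rfl | rfl | rfl | rfl
      · exact ext_wit 3 h2 hab (nondeg_hyp hnb 1) (i := 1) (ndh (ev 2).1 (nd 2 (by norm_num)).1)
          (by simp) (M2.half (nondeg_hyp hnb 1) h2 (ev 2).1)
      · exact ext_wit 3 h2 hab (nondeg_hyp hn0 2) (i := 1) (ndh (ev 2).2 (nd 2 (by norm_num)).2)
          (by simp) (P2.half (nondeg_hyp hn0 2) h2 (ev 2).2)
      · have h := El.prod (nondeg_hyp hnb 0) (nondeg_hyp hnb 0) h2 M1 M1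
        rw [neg_mul_neg, one_mul, Nat.lcm_self] at h
        exact ext_wit 3 h2 hab (nondeg_prod (nondeg_hyp hnb 0) (nondeg_hyp hnb 0)) (i := 1) nd1.1 (by simp) h
      · have h := El.prod (nondeg_hyp hn0 1) (nondeg_hyp hn0 1) h2 P1 P1
        rw [neg_mul_neg, one_mul, Nat.lcm_self] at h
        exact ext_wit 3 h2 hab (nondeg_prod (nondeg_hyp hn0 1) (nondeg_hyp hn0 1)) (i := 1) nd1.2 (by simp) h
    · subst hp5
      simp only [List.mem_cons, List.not_mem_nil, or_false] at hP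
      rcases hP with rfl | rfl
      · exact ext_wit 5 h2 hab (nondeg_hyp hnb 0) (i := 1) (ndh e1 nd1.1) (by simp)
          (M1.half (nondeg_hyp hnb 0) h2 e1)
      · exact ext_wit 5 h2 hab (nondeg_hyp hn0 1) (i := 1) (ndh e2 nd1.2) (by simp)
          (P1.half (nondeg_hyp hn0 1) h2 e2)
    · subst hp7
      simp only [List.mem_cons, List.not_mem_nil, or_false] at hP
      subst hP
      exact ext_wit 7 h2 hab hn0 (i := 1) (by norm_num) (by simp) (El.one _)
    · simp at hP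

end Main

end Cfsg.Agent.SpecNine
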